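import Cfsg.Prelude.Def_HallClasses
import Cfsg.Agent.Lib.MinNormalNonabelian

/-!
# The solvable case of the Baer–Suzuki theorem for a set of primes (helper470, S3877)

`Pairs π x` : any two conjugates of `x` generate a `π`-subgroup.
`of_solvable` : if in addition the normal closure of `x` is solvable then it is a `π`-subgroup.
-/

set_option autoImplicit false
set_option linter.unusedSectionVars false

namespace Cfsg.Agent.H470.SolvPi

open Cfsg Subgroup

universe u

/-- any two conjugates of `x` generate a `π`-subgroup -/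
def Pairs (π : Set ℕ) {G : Type u} [Group G] (x : G) : Prop :=
  ∀ g h : G, IsPiSubgroup π (closure ({g * x * g⁻¹, h * x * h⁻¹} : Set G))

theorem exists_normal_pgroup {G : Type u} [Group G] [Finite G] {N : Subgroup G} (hNn : N.Normal) (hN : N ≠ ⊥)
    (hs : Group.IsSolvable ↥N) : ∃ (p : ℕ) (Q : Subgroup G), p.Prime ∧ Q.Normal ∧ Q ≠ ⊥ ∧ Q ≤ N ∧ IsPGroup p ↥Q := by
  have hfin : {M : Subgroup G | M.Normal ∧ M ≠ ⊥ ∧ M ≤ N}.Finite := Set.toFinite _
  obtain ⟨M, ⟨hMn, hM0, hMN⟩, hMmin⟩ := hfin.exists_minimal ⟨N, hNn, hN, le_rfl⟩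
  have hmin : ∀ L : Subgroup G, L.Normal → L ≤ M → L = ⊥ ∨ L = M := by
    intro L hL hLM
    by_cases hL0 : L = ⊥
    · exact Or.inl hL0
    · exact Or.inr (le_antisymm hLM (hMmin ⟨hL, hL0, hLM.trans hMN⟩ hLM))
  by_cases hab : ∀ x ∈ M, ∀ y ∈ M, Commute x y
  · obtain ⟨p, hp, hpM, -⟩ := Lib.MinNormalNonabelian.abelian_structure M hM0 hmin hab
    exact ⟨p, M, hp, hMn, hM0, hMN, hpM⟩
  · exfalso
    obtain ⟨⟨T, hT⟩, -, -, hsi, hz, -⟩ := Lib.MinNormalNonabelian.nonabelian_structure M hmin hab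
    have hTs := hsi T hT
    have h1 : Group.IsSolvable ↥T :=
      Group.isSolvable_of_isSolvable_injective (Subgroup.inclusion_injective (hT.1.trans hMN))
    obtain ⟨z, hz1⟩ := exists_ne (1 : ↥T)
    apply hz1
    exact Subtype.ext (hz T hT z z.2 fun t ht =>
      congrArg Subtype.val ((IsSimpleGroup.comm_iff_isSolvable (G := ↥T)).2 h1 z ⟨t, ht⟩))

section basic

variable {π : Set ℕ} {G H : Type u} [Group G] [Group H]

theorem Pairs.map [Finite G] {x : G} (h : Pairs π x) {f : G →* H} (hf : Function.Surjective f) : Pairs π (f x) := by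
  intro a b
  obtain ⟨a, rfl⟩ := hf a
  obtain ⟨b, rfl⟩ := hf b
  have h1 : (closure ({a * x * a⁻¹, b * x * b⁻¹} : Set G)).map f =
      closure ({f a * f x * (f a)⁻¹, f b * f x * (f b)⁻¹} : Set H) := by
    rw [MonoidHom.map_closure, Set.image_pair]
    simp only [map_mul, map_inv]
  intro p hp hd
  rw [← h1] at hd
  exact h a b p hp (hd.trans (Subgroup.card_map_dvd _ f))

theorem Pairs.subtype {K : Subgroup G} {x : K} (h : Pairs π (x : G)) : Pairs π x := by
  intro a b
  have h1 : (closure ({a * x * a⁻¹, b * x * b⁻¹} : Set K)).map K.subtype =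
      closure ({(a : G) * x * (a : G)⁻¹, (b : G) * x * (b : G)⁻¹} : Set G) := by
    rw [MonoidHom.map_closure, Set.image_pair]
    rfl
  intro p hp hd
  rw [← Subgroup.card_map_of_injective K.subtype_injective, h1] at hd
  exact h a b p hp hd

theorem Pairs.pow [Finite G] {x : G} (h : Pairs π x) (k : ℕ) : Pairs π (x ^ k) := by
  intro a b p hp hd
  refine h a b p hp (hd.trans (Subgroup.card_dvd_of_le ?_))
  rw [closure_le]
  rintro y (rfl | rfl)
  · rw [← conj_pow]
    exact pow_mem (subset_closure (by simp)) k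
  · rw [← conj_pow]
    exact pow_mem (subset_closure (by simp)) k

end basic

/-- **The solvable case.** -/
theorem of_solvable {π : Set ℕ} {G : Type u} [Group G] [Finite G] {x : G} (hx : Pairs π x)
    (hs : Group.IsSolvable ↥(normalClosure ({x} : Set G))) : IsPiSubgroup π (normalClosure ({x} : Set G)) := by
  induction hn : Nat.card G using Nat.strong_induction_on generalizing G with
  | _ n ih =>
  subst hn
  set N := normalClosure ({x} : Set G) with hN
  have hNn : N.Normal := normalClosure_normal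
  have hxN : x ∈ N := subset_normalClosure rfl
  by_cases hN1 : N = ⊥
  · intro p hp hd
    rw [hN1, card_bot] at hd
    exact absurd (Nat.dvd_one.1 hd) hp.one_lt.ne'
  obtain ⟨p, V, hp, hVn, hV1, hVN, hVp⟩ := exists_normal_pgroup hNn hN1 hs
  have hpf : Fact p.Prime := ⟨hp⟩
  -- the quotient
  have hcard : Nat.card (G ⧸ V) < Nat.card G := by
    have h3 := Subgroup.card_eq_card_quotient_mul_card_subgroup V
    have h4 : 1 < Nat.card V := (Subgroup.one_lt_card_iff_ne_bot V).mpr hV1
    have h5 : 0 < Nat.card (G ⧸ V) := Nat.card_pos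
    nlinarith
  have hf := QuotientGroup.mk'_surjective V
  have hNC : normalClosure ({QuotientGroup.mk' V x} : Set (G ⧸ V)) = N.map (QuotientGroup.mk' V) := by
    rw [hN, Subgroup.map_normalClosure _ _ hf, Set.image_singleton]
  have hbar : IsPiSubgroup π (N.map (QuotientGroup.mk' V)) := by
    rw [← hNC]
    refine ih _ hcard (hx.map hf) ?_ rfl
    rw [hNC]
    exact Group.isSolvable_of_surjective (f := (QuotientGroup.mk' V).subgroupMap N)
      ((QuotientGroup.mk' V).subgroupMap_surjective N)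
  have hcV : Nat.card (V.subgroupOf N) = Nat.card V := Nat.card_congr (subgroupOfEquivOfLe hVN).toEquiv
  have hidx : (V.subgroupOf N).index = Nat.card (N.map (QuotientGroup.mk' V)) := by
    have h1 : ((QuotientGroup.mk' V).subgroupMap N).ker = V.subgroupOf N := by
      ext y
      rw [MonoidHom.mem_ker, mem_subgroupOf, ← QuotientGroup.eq_one_iff (N := V) (y : G)]
      exact ⟨fun h => congrArg Subtype.val h, fun h => Subtype.ext h⟩
    rw [← h1, Subgroup.index_ker, MonoidHom.range_eq_top.2 ((QuotientGroup.mk' V).subgroupMap_surjective N),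
      Subgroup.card_top]
  have hcN : Nat.card N = Nat.card V * Nat.card (N.map (QuotientGroup.mk' V)) := by
    rw [← hidx, ← hcV, Subgroup.card_mul_index]
  by_cases hpπ : p ∈ π
  · intro q hq hd
    rw [hcN] at hd
    rcases (hq.dvd_mul).1 hd with h1 | h1
    · obtain ⟨k, hk⟩ := IsPGroup.iff_card.1 hVp
      rw [hk] at h1
      rw [(Nat.prime_dvd_prime_iff_eq hq hp).1 (hq.dvd_of_dvd_pow h1)]
      exact hpπ
    · exact hbar q hq h1
  -- `p ∉ π`
  exfalso
  have hpd : ∀ S : Subgroup G, IsPiSubgroup π S → ¬ p ∣ Nat.card S := fun S hS hd => hpπ (hS p hp hd)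
  have hcomm : ∀ v ∈ V, x * v = v * x := by
    intro v hv
    have h1 : x * (v * x⁻¹ * v⁻¹) ∈ closure ({1 * x * 1⁻¹, v * x * v⁻¹} : Set G) := by
      refine mul_mem (subset_closure (by simp)) ?_
      have h2 := inv_mem (subset_closure (show v * x * v⁻¹ ∈ ({1 * x * 1⁻¹, v * x * v⁻¹} : Set G) by simp))
      convert h2 using 1
      group
    have h2 : x * (v * x⁻¹ * v⁻¹) ∈ V := by
      have h3 := mul_mem (hVn.conj_mem v hv x) (inv_mem hv)
      convert h3 using 1
      group
    have h3 : orderOf (x * (v * x⁻¹ * v⁻¹)) ∣ Nat.card ↥(closure ({1 * x * 1⁻¹, v * x * v⁻¹} : Set G)) :=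
      Subgroup.orderOf_dvd_natCard _ h1
    have h4 : orderOf (x * (v * x⁻¹ * v⁻¹)) = 1 := by
      obtain ⟨k, hk⟩ := (hVp ⟨_, h2⟩)
      have h5 : (x * (v * x⁻¹ * v⁻¹)) ^ p ^ k = 1 := congrArg Subtype.val hk
      refine Nat.eq_one_of_dvd_coprimes (Nat.Coprime.pow_left k ((Nat.Prime.coprime_iff_not_dvd hp).2
        (hpd _ (hx 1 v)))) (orderOf_dvd_of_pow_eq_one h5) h3
    rw [orderOf_eq_one_iff] at h4
    calc x * v = (x * (v * x⁻¹ * v⁻¹)) * (v * x) := by group
      _ = v * x := by rw [h4, one_mul]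
  have hcen : N ≤ centralizer (V : Set G) := by
    have : (centralizer (V : Set G)).Normal := inferInstance
    refine normalClosure_le_normal ?_
    rw [Set.singleton_subset_iff]
    exact mem_centralizer_iff.2 fun v hv => (hcomm v hv).symm
  have hcop : Nat.Coprime (Nat.card (V.subgroupOf N)) (V.subgroupOf N).index := by
    rw [hidx, hcV]
    obtain ⟨k, hk⟩ := IsPGroup.iff_card.1 hVp
    rw [hk]
    exact Nat.Coprime.pow_left k ((Nat.Prime.coprime_iff_not_dvd hp).2 fun hd => hpπ (hbar p hp hd))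
  obtain ⟨H, hH⟩ := Subgroup.exists_right_complement'_of_coprime hcop
  have hkey : ∀ y : N, (∃ g : G, (y : G) = g * x * g⁻¹) → y ∈ H := by
    rintro y ⟨g, hg⟩
    obtain ⟨⟨v, h⟩, hvh⟩ := hH.2 y
    have hvh' : (v : N) * h = y := hvh
    have hc : Commute (v : N) (h : N) := by
      apply Subtype.ext
      exact (mem_centralizer_iff.1 (hcen (h : N).2) _ (mem_subgroupOf.1 v.2))
    have h1 : (h : N) ^ Nat.card H = 1 := by
      have := pow_card_eq_one' (x := h)
      exact congrArg Subtype.val this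
    have h2 : (v : N) ^ (Nat.card H * orderOf y) = 1 := by
      have h3 : y ^ (Nat.card H * orderOf y) = 1 := by rw [mul_comm, pow_mul, pow_orderOf_eq_one, one_pow]
      rw [← hvh', hc.mul_pow, pow_mul (h : N), h1, one_pow, mul_one] at h3
      rwa [hvh'] at h3
    have h3 : ¬ p ∣ Nat.card H * orderOf y := by
      intro hd
      rcases (hp.dvd_mul).1 hd with h4 | h4
      · rw [← hH.symm.index_eq_card, hidx] at h4
        exact hpπ (hbar p hp h4)
      · refine hpd _ (hx g g) (h4.trans ?_)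
        rw [← Subgroup.orderOf_coe, hg]
        exact Subgroup.orderOf_dvd_natCard _ (subset_closure (by simp))
    obtain ⟨k, hk⟩ := hVp ⟨((v : N) : G), mem_subgroupOf.1 v.2⟩
    have h4 : (v : N) ^ p ^ k = 1 := Subtype.ext (congrArg (Subtype.val : V → G) hk)
    have h5 : orderOf (v : N) = 1 := Nat.eq_one_of_dvd_coprimes (Nat.Coprime.pow_left k
      ((Nat.Prime.coprime_iff_not_dvd hp).2 h3)) (orderOf_dvd_of_pow_eq_one h4) (orderOf_dvd_of_pow_eq_one h2)
    rw [orderOf_eq_one_iff] at h5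
    rw [← hvh', h5, one_mul]
    exact h.2
  have hNH : N ≤ H.map N.subtype := by
    show closure (Group.conjugatesOfSet ({x} : Set G)) ≤ _
    rw [closure_le]
    intro y hy
    obtain ⟨a, ha, hay⟩ := Group.mem_conjugatesOfSet_iff.1 hy
    rw [Set.mem_singleton_iff] at ha
    rw [ha] at hay
    obtain ⟨g, hg⟩ := isConj_iff.1 hay
    exact ⟨⟨y, Subgroup.conjugatesOfSet_subset_normalClosure hy⟩, hkey _ ⟨g, hg.symm⟩, rfl⟩
  apply hV1
  rw [eq_bot_iff]
  intro v hv
  obtain ⟨h, hh, e⟩ := hNH (hVN hv)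
  have h1 : h ∈ V.subgroupOf N ⊓ H := ⟨mem_subgroupOf.2 (by rw [← e] at hv; exact hv), hh⟩
  rw [hH.disjoint.eq_bot, mem_bot] at h1
  rw [mem_bot, ← e, h1]
  rfl

end Cfsg.Agent.H470.SolvPi
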