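import Mathlib
import Cfsg.Prelude.Def_Local

/-!
# Bad elements of prime order `p` (helper470, for S3877)

* `OddFree p H` : no normal subgroup of odd order of `H` contains elements of order `p`;
* `Bad p x` : `x` has order `p`, generates with each conjugate a group of odd order, and lies in a normal subgroup of odd
  order of every proper subgroup containing it;
* `NoBad p K` : `K` has no bad element of order `p`;
* `Bad.false_of_mem`, `Bad.false_of_sylow`, `Bad.false_of_comm`, `Bad.false_of_norm` : the basic contradictions;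
* `Bad.card_ge` : `|C(x)| ≥ |K|₂`.
-/

set_option autoImplicit false
set_option linter.unusedSectionVars false

namespace Cfsg.Agent.H470

open Subgroup Cfsg

/-- no normal subgroup of odd order contains elements of order `p` -/
def OddFree (p : ℕ) (H : Type*) [Group H] : Prop :=
  ∀ N : Subgroup H, N.Normal → Odd (Nat.card N) → ∀ x ∈ N, orderOf x ≠ p

section OddFree

variable {p : ℕ} {H L : Type*} [Group H] [Group L]

theorem OddFree.of_not_dvd [Finite H] (h : ¬ p ∣ Nat.card H) : OddFree p H :=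
  fun _ _ _ x _ hx => h (hx ▸ orderOf_dvd_natCard x)

/-- simple groups of even order -/
theorem OddFree.of_simple [Finite H] [IsSimpleGroup H] (hp : p ≠ 1) (h : Even (Nat.card H)) : OddFree p H := by
  intro N hN ho x hx hxp
  rcases hN.eq_bot_or_eq_top with h1 | h1
  · rw [h1, mem_bot] at hx
    rw [hx, orderOf_one] at hxp
    exact hp hxp.symm
  · rw [h1, card_top] at ho
    exact (Nat.not_even_iff_odd.2 ho) h

/-- `O(H) = 1` -/
theorem OddFree.of_core (hp : p ≠ 1) (h : pPrimeCore 2 H = ⊥) : OddFree p H := by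
  intro N hN ho x hx hxp
  have h1 : N ≤ pPrimeCore 2 H := le_sSup ⟨hN, Nat.coprime_two_right.2 ho⟩
  have h2 := h1 hx
  rw [h, mem_bot] at h2
  rw [h2, orderOf_one] at hxp
  exact hp hxp.symm

/-- a surjection whose kernel has no elements of order `p` -/
theorem OddFree.of_surj [Finite H] (hp : p.Prime) (f : H →* L) (hf : Function.Surjective f)
    (hk : ∀ x : H, f x = 1 → orderOf x ≠ p) (h : OddFree p L) : OddFree p H := by
  intro N hN ho x hx hxp
  have h2 : orderOf (f x) ∣ p := hxp ▸ orderOf_map_dvd f x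
  rcases (Nat.dvd_prime hp).1 h2 with h3 | h3
  · exact hk x (orderOf_eq_one_iff.1 h3) hxp
  · exact h (N.map f) (hN.map f hf) (ho.of_dvd_nat (Subgroup.card_map_dvd N f)) _ (mem_map_of_mem f hx) h3

theorem OddFree.congr [Finite H] (hp : p.Prime) (e : H ≃* L) (h : OddFree p L) : OddFree p H :=
  .of_surj hp e.toMonoidHom e.surjective (fun x hx => by
    have h1 : x = 1 := e.injective (hx.trans (map_one e).symm)
    rw [h1, orderOf_one]
    exact hp.one_lt.ne) h

/-- a normal subgroup of index prime to `p` -/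
theorem OddFree.of_index [Finite H] (hp : p.Prime) (N : Subgroup H) [hN : N.Normal] (hi : ¬ p ∣ N.index)
    (h : OddFree p N) : OddFree p H := by
  intro M hM ho x hx hxp
  have h1 : x ∈ N := by
    have h2 : orderOf (QuotientGroup.mk' N x) ∣ p := hxp ▸ orderOf_map_dvd _ x
    rcases (Nat.dvd_prime hp).1 h2 with h3 | h3
    · exact (QuotientGroup.eq_one_iff x).1 (orderOf_eq_one_iff.1 h3)
    · exact absurd (h3 ▸ orderOf_dvd_natCard _) hi
  have h3 : Nat.card (M.subgroupOf N) ∣ Nat.card M := by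
    have h5 : Nat.card (M.subgroupOf N) = Nat.card ↥(M ⊓ N) := by
      rw [← inf_subgroupOf_right M N]
      exact Nat.card_congr (Subgroup.subgroupOfEquivOfLe inf_le_right).toEquiv
    rw [h5]
    exact Subgroup.card_dvd_of_le inf_le_left
  refine h (M.subgroupOf N) (hM.subgroupOf N) (ho.of_dvd_nat h3) ⟨x, h1⟩ (mem_subgroupOf.2 hx) ?_
  rw [Subgroup.orderOf_mk, hxp]

end OddFree

/-- `x` is a bad element of order `p` -/
structure Bad (p : ℕ) {K : Type*} [Group K] (x : K) : Prop where
  ord : orderOf x = p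
  gen : ∀ g : K, Odd (Nat.card ↥(closure ({x, g * x * g⁻¹} : Set K)))
  rad : ∀ M : Subgroup K, M ≠ ⊤ → x ∈ M →
    ∃ N : Subgroup K, N ≤ M ∧ (∀ m ∈ M, ∀ n ∈ N, m * n * m⁻¹ ∈ N) ∧ Odd (Nat.card N) ∧ x ∈ N

/-- no bad elements of order `p` -/
def NoBad (p : ℕ) (K : Type*) [Group K] : Prop := ∀ x : K, ¬ Bad p x

variable {p : ℕ} {K L : Type*} [Group K] [Group L]

theorem Bad.tr {x : K} (h : Bad p x) (e : K ≃* L) : Bad p (e x) where
  ord := (orderOf_injective e.toMonoidHom e.injective x).trans h.ord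
  gen := by
    intro g
    have h1 := h.gen (e.symm g)
    have h2 : (closure ({x, e.symm g * x * (e.symm g)⁻¹} : Set K)).map e.toMonoidHom =
        closure ({e x, g * e x * g⁻¹} : Set L) := by
      rw [MonoidHom.map_closure, Set.image_pair]
      congr 2
      simp
    rw [← h2, Subgroup.card_map_of_injective e.injective]
    exact h1
  rad := by
    intro M hM hx
    have hne : M.comap e.toMonoidHom ≠ ⊤ := by
      intro h1
      apply hM
      rw [eq_top_iff]
      intro l _
      have h2 : e.symm l ∈ M.comap e.toMonoidHom := by rw [h1]; exact mem_top _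
      rw [mem_comap] at h2
      simpa using h2
    obtain ⟨N, hN1, hN2, hN3, hN4⟩ := h.rad _ hne (mem_comap.2 hx)
    refine ⟨N.map e.toMonoidHom, ?_, ?_, ?_, mem_map_of_mem _ hN4⟩
    · rintro _ ⟨n, hn, rfl⟩
      exact mem_comap.1 (hN1 hn)
    · rintro m hm _ ⟨n, hn, rfl⟩
      exact ⟨e.symm m * n * (e.symm m)⁻¹, hN2 _ (mem_comap.2 (by simpa using hm)) n hn, by simp⟩
    · rwa [Subgroup.card_map_of_injective e.injective]

theorem NoBad.congr (e : K ≃* L) (h : NoBad p K) : NoBad p L := by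
  intro x hx
  exact h (e.symm x) (hx.tr e.symm)

theorem Bad.conj {x : K} (h : Bad p x) (g : K) : Bad p (g * x * g⁻¹) := by
  simpa using h.tr (MulAut.conj g)

theorem Bad.gen' {x : K} (h : Bad p x) (a b : K) : Odd (Nat.card ↥(closure ({a * x * a⁻¹, b * x * b⁻¹} : Set K))) := by
  have h1 := (h.conj a).gen (b * a⁻¹)
  have e : b * a⁻¹ * (a * x * a⁻¹) * (b * a⁻¹)⁻¹ = b * x * b⁻¹ := by group
  rwa [e] at h1

/-- a bad element lies in no proper subgroup `M` with `OddFree p M` -/
theorem Bad.false_of_mem {x : K} (h : Bad p x) {M : Subgroup K} (hM : M ≠ ⊤) (hx : x ∈ M) (hf : OddFree p M) :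
    False := by
  obtain ⟨N, h1, h2, h3, h4⟩ := h.rad M hM hx
  have hN : (N.subgroupOf M).Normal := ⟨fun n hn g => by
    rw [mem_subgroupOf] at hn ⊢
    exact h2 g g.2 n hn⟩
  have hc : Nat.card (N.subgroupOf M) = Nat.card N := Nat.card_congr (Subgroup.subgroupOfEquivOfLe h1).toEquiv
  refine hf _ hN (by rwa [hc]) ⟨x, hx⟩ (mem_subgroupOf.2 h4) ?_
  rw [Subgroup.orderOf_mk, h.ord]

theorem Bad.false_of_conj_mem {x : K} (h : Bad p x) {M : Subgroup K} (hM : M ≠ ⊤) {g : K} (hx : g * x * g⁻¹ ∈ M)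
    (hf : OddFree p M) : False := (h.conj g).false_of_mem hM hx hf

/-- every `p`-element is conjugate into a subgroup of index prime to `p` -/
theorem exists_conj_mem [Finite K] (hp : p.Prime) {x : K} (hx : orderOf x = p) {M : Subgroup K}
    (hi : ¬ p ∣ M.index) : ∃ g : K, g * x * g⁻¹ ∈ M := by
  have : Fact p.Prime := ⟨hp⟩
  obtain ⟨P⟩ : Nonempty (Sylow p M) := inferInstance
  have h1 : IsPGroup p ((P : Subgroup M).map M.subtype) := P.isPGroup'.map _
  have h2 : ¬ p ∣ ((P : Subgroup M).map M.subtype).index := by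
    rw [Subgroup.index_map_subtype]
    intro h
    rcases (hp.dvd_mul.1 h) with h | h
    · exact P.not_dvd_index h
    · exact hi h
  let Q : Sylow p K := h1.toSylow h2
  have h3 : IsPGroup p (zpowers x) := IsPGroup.of_card (n := 1) (by rw [Nat.card_zpowers, hx, pow_one])
  obtain ⟨R, hR⟩ := h3.exists_le_sylow
  obtain ⟨g, hg⟩ := MulAction.exists_smul_eq K R Q
  refine ⟨g, ?_⟩
  have h4 : g * x * g⁻¹ ∈ (g • R : Sylow p K) := by
    rw [Sylow.smul_def]
    exact Subgroup.smul_mem_pointwise_smul x (MulAut.conj g) R.toSubgroup (hR (mem_zpowers x))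
  rw [hg] at h4
  have h5 : g * x * g⁻¹ ∈ (P : Subgroup M).map M.subtype := h4
  obtain ⟨m, -, hm⟩ := h5
  rw [← hm]
  exact m.2

/-- **A proper subgroup of index prime to `p` with `OddFree`.** -/
theorem NoBad.of_sylow [Finite K] (hp : p.Prime) {M : Subgroup K} (hM : M ≠ ⊤) (hi : ¬ p ∣ M.index)
    (hf : OddFree p M) : NoBad p K := by
  intro x h
  obtain ⟨g, hg⟩ := exists_conj_mem hp h.ord hi
  exact h.false_of_conj_mem hM hg hf

/-- some conjugate of a bad element lies in a normal subgroup of odd order of each subgroup of index prime to `p` -/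
theorem Bad.exists_normal [Finite K] (hp : p.Prime) {x : K} (h : Bad p x) {M : Subgroup K} (hM : M ≠ ⊤)
    (hi : ¬ p ∣ M.index) : ∃ (g : K) (N : Subgroup K), N ≤ M ∧ (∀ m ∈ M, ∀ n ∈ N, m * n * m⁻¹ ∈ N) ∧
      Odd (Nat.card N) ∧ g * x * g⁻¹ ∈ N := by
  obtain ⟨g, hg⟩ := exists_conj_mem hp h.ord hi
  exact ⟨g, (h.conj g).rad M hM hg⟩

/-- an embedding of a group with `OddFree` whose index is prime to `p` -/
theorem NoBad.of_hom [Finite K] [Finite L] (hp : p.Prime) (f : L →* K) (hf : Function.Injective f)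
    (hlt : Nat.card L < Nat.card K) (hi : ¬ p ∣ Nat.card K / Nat.card L) (h : OddFree p L) : NoBad p K := by
  have hc : Nat.card f.range = Nat.card L := (Nat.card_congr (MonoidHom.ofInjective hf).toEquiv).symm
  refine .of_sylow hp (M := f.range) ?_ ?_ (h.congr hp (MonoidHom.ofInjective hf).symm)
  · intro h1
    rw [h1, card_top] at hc
    omega
  · have h1 := Subgroup.card_mul_index f.range
    have h2 : f.range.index = Nat.card K / Nat.card L := by
      rw [← h1, hc, Nat.mul_div_cancel_left _ Nat.card_pos]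
    rw [h2]
    exact hi

/-- a bad element commutes with no element whose centralizer is `OddFree` -/
theorem Bad.false_of_comm {x t : K} (h : Bad p x) (ht : t ∉ center K) (hxt : x * t = t * x)
    (hf : OddFree p ↥(centralizer ({t} : Set K))) : False := by
  refine h.false_of_mem (M := centralizer ({t} : Set K)) ?_ ?_ hf
  · intro h1
    apply ht
    rw [mem_center_iff]
    intro g
    have h2 : g ∈ centralizer ({t} : Set K) := by rw [h1]; exact mem_top _
    rw [mem_centralizer_singleton_iff] at h2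
    exact h2
  · rw [mem_centralizer_singleton_iff]
    exact hxt

/-- **Balance.** If `O(C(t)) = 1` for all involutions then the centralizer of a bad element has odd order. -/
theorem Bad.odd_centralizer [Finite K] {x : K} (h : Bad p x) (hp : p ≠ 1) (hc : center K = ⊥)
    (hb : ∀ t : K, orderOf t = 2 → centralizerPPrimeCore 2 t = ⊥) :
    Odd (Nat.card ↥(centralizer ({x} : Set K))) := by
  by_contra hcon
  rw [Nat.not_odd_iff_even, even_iff_two_dvd] at hcon
  have : Fact (Nat.Prime 2) := ⟨Nat.prime_two⟩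
  obtain ⟨t, ht⟩ := exists_prime_orderOf_dvd_card' 2 hcon
  have ht2 : orderOf (t : K) = 2 := by rw [← ht]; exact Subgroup.orderOf_coe t
  have hxt := mem_centralizer_singleton_iff.1 t.2
  refine h.false_of_comm (t := (t : K)) ?_ hxt.symm (OddFree.of_core hp ?_)
  · intro h1
    rw [hc, mem_bot] at h1
    rw [h1, orderOf_one] at ht2
    omega
  · have h1 := hb _ ht2
    unfold centralizerPPrimeCore at h1
    rwa [Subgroup.map_eq_bot_iff_of_injective _ (Subgroup.subtype_injective _)] at h1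

/-- **Balance and even centralizers.** -/
theorem NoBad.of_even [Finite K] (hp : p ≠ 1) (hc : center K = ⊥)
    (hb : ∀ t : K, orderOf t = 2 → centralizerPPrimeCore 2 t = ⊥)
    (he : ∀ x : K, orderOf x = p → Even (Nat.card ↥(centralizer ({x} : Set K)))) : NoBad p K :=
  fun x h => (Nat.not_even_iff_odd.2 (h.odd_centralizer hp hc hb)) (he x h.ord)

/-- a commutator `[x, v]` which is a nontrivial `2`-element -/
theorem Bad.false_of_two {x : K} (h : Bad p x) {g : K} {k : ℕ} (hne : x * g ≠ g * x)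
    (h2 : (x⁻¹ * (g * x * g⁻¹)) ^ 2 ^ k = 1) : False := by
  have h1 := h.gen g
  have h3 : x⁻¹ * (g * x * g⁻¹) ∈ closure ({x, g * x * g⁻¹} : Set K) :=
    mul_mem (inv_mem (subset_closure (by simp))) (subset_closure (by simp))
  have h4 : orderOf (x⁻¹ * (g * x * g⁻¹)) ∣ Nat.card ↥(closure ({x, g * x * g⁻¹} : Set K)) := by
    have := orderOf_dvd_natCard (⟨_, h3⟩ : ↥(closure ({x, g * x * g⁻¹} : Set K)))
    rwa [Subgroup.orderOf_mk] at this
  have h5 : orderOf (x⁻¹ * (g * x * g⁻¹)) ∣ 2 ^ k := orderOf_dvd_of_pow_eq_one h2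
  have h6 := Nat.eq_one_of_dvd_coprimes (Nat.Coprime.pow_right k (Nat.coprime_two_right.2 h1)) h4 h5
  rw [orderOf_eq_one_iff, inv_mul_eq_one] at h6
  apply hne
  calc x * g = (g * x * g⁻¹) * g := by rw [← h6]
    _ = g * x := by group

/-- **A bad element centralizes the `2`-subgroups it normalizes.** -/
theorem Bad.false_of_norm {x : K} (h : Bad p x) {V : Subgroup K} (hV : IsPGroup 2 V)
    (hn : ∀ v ∈ V, x * v * x⁻¹ ∈ V) {v : K} (hv : v ∈ V) (hne : x * v ≠ v * x) : False := by
  have h1 : x⁻¹ * (v * x * v⁻¹) = (x⁻¹ * (v * (x * v * x⁻¹)⁻¹) * x) := by group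
  obtain ⟨k, hk⟩ := hV ⟨v * (x * v * x⁻¹)⁻¹, mul_mem hv (inv_mem (hn v hv))⟩
  have hk' : (v * (x * v * x⁻¹)⁻¹) ^ 2 ^ k = 1 := congrArg Subtype.val hk
  refine h.false_of_two (g := v) (k := k) hne ?_
  rw [h1]
  have h2 := conj_pow (i := 2 ^ k) (a := x⁻¹) (b := v * (x * v * x⁻¹)⁻¹)
  rw [inv_inv] at h2
  rw [h2, hk']
  group

/-- **The centralizer is large**: `|T| ≤ |C(x)|` for every `2`-subgroup `T`. -/
theorem Bad.card_ge [Finite K] {x : K} (h : Bad p x) {T : Subgroup K} (hT : IsPGroup 2 T) :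
    Nat.card T ≤ Nat.card ↥(centralizer ({x} : Set K)) := by
  classical
  -- the class of `x` injects into `K / T`
  let f : K ⧸ centralizer ({x} : Set K) → K ⧸ T := Quotient.lift (fun g => (QuotientGroup.mk (g * x * g⁻¹) : K ⧸ T)) (by
    intro a b hab
    have h1 : a⁻¹ * b ∈ centralizer ({x} : Set K) := QuotientGroup.leftRel_apply.1 hab
    rw [mem_centralizer_singleton_iff] at h1
    have h2 : a * x * a⁻¹ = b * x * b⁻¹ := by
      have h3 : a * (a⁻¹ * b * x) * b⁻¹ = a * (x * (a⁻¹ * b)) * b⁻¹ := by rw [h1]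
      have h4 : a * (a⁻¹ * b * x) * b⁻¹ = b * x * b⁻¹ := by group
      have h5 : a * (x * (a⁻¹ * b)) * b⁻¹ = a * x * a⁻¹ := by group
      rw [← h4, h3, h5]
    show (QuotientGroup.mk (a * x * a⁻¹) : K ⧸ T) = QuotientGroup.mk (b * x * b⁻¹)
    rw [h2])
  have hf : Function.Injective f := by
    intro a b
    refine QuotientGroup.induction_on a fun a => QuotientGroup.induction_on b fun b => ?_
    intro hab
    have h1 : (a * x * a⁻¹)⁻¹ * (b * x * b⁻¹) ∈ T := QuotientGroup.eq.1 hab
    obtain ⟨k, hk⟩ := hT ⟨_, h1⟩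
    have hk' : ((a * x * a⁻¹)⁻¹ * (b * x * b⁻¹)) ^ 2 ^ k = 1 := congrArg Subtype.val hk
    rw [QuotientGroup.eq, mem_centralizer_singleton_iff]
    by_contra hne
    refine (h.conj a).false_of_two (g := b * a⁻¹) (k := k) ?_ ?_
    · intro h2
      apply hne
      have h3 : a⁻¹ * (a * x * a⁻¹ * (b * a⁻¹)) * a = a⁻¹ * ((b * a⁻¹) * (a * x * a⁻¹)) * a := by rw [h2]
      have h4 : a⁻¹ * (a * x * a⁻¹ * (b * a⁻¹)) * a = x * (a⁻¹ * b) := by group
      have h5 : a⁻¹ * ((b * a⁻¹) * (a * x * a⁻¹)) * a = a⁻¹ * b * x := by group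
      rw [← h5, ← h3, h4]
    · have e : b * a⁻¹ * (a * x * a⁻¹) * (b * a⁻¹)⁻¹ = b * x * b⁻¹ := by group
      rw [e]
      exact hk'
  have h1 := Nat.card_le_card_of_injective f hf
  have h2 := Subgroup.card_eq_card_quotient_mul_card_subgroup (centralizer ({x} : Set K))
  have h3 := Subgroup.card_eq_card_quotient_mul_card_subgroup T
  rw [h2] at h3
  have h4 : 0 < Nat.card (K ⧸ centralizer ({x} : Set K)) := Nat.card_pos
  by_contra hlt
  push Not at hlt
  have h5 : Nat.card (K ⧸ centralizer ({x} : Set K)) * Nat.card ↥(centralizer ({x} : Set K)) <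
      Nat.card (K ⧸ centralizer ({x} : Set K)) * Nat.card T := Nat.mul_lt_mul_of_pos_left hlt h4
  have h6 : Nat.card (K ⧸ centralizer ({x} : Set K)) * Nat.card T ≤ Nat.card (K ⧸ T) * Nat.card T :=
    Nat.mul_le_mul_right _ h1
  omega

end Cfsg.Agent.H470
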