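import Cfsg.Agent.H470.Types

/-!
# The longest element

Odd characteristic.  Let `τ` be an automorphism of odd order all of whose products with involutions of `G` have even
order.  If a pair of opposite chambers is swapped by an involution `n` with `(s n)² = 1` for all the `2`-elements `s` fixing
both chambers then `τ` maps no chamber to an opposite one.
-/

set_option autoImplicit false
set_option linter.unusedSectionVars false

open scoped Pointwise

namespace Cfsg.Agent.H470.WZero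

open Cfsg Cfsg.Agent.Tits.Core Cfsg.Agent.Tits.Core.Bldg Cfsg.Agent.Tits.OppRes Cfsg.Agent.Tits.Rigid
  Cfsg.Agent.Tits.Exchange Cfsg.Agent.Tits
open Cfsg.Agent.FixBN (Sys)
open Cfsg.Agent.FixOdd (Tw)
open Cfsg.Agent.H470.Core Cfsg.Agent.H470.NoRes Cfsg.Agent.H470.Types
open Cfsg.Agent.H519.Bld (τ_mem_U eq_of_fix)

section Grp

variable {G : Type*} [Group G]

theorem mul_conj (γ : MulAut G) (v : G) : γ * MulAut.conj v = MulAut.conj (γ v) * γ := by
  ext x
  simp [MulAut.conj_apply]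

theorem conj_mul_pow {U : Subgroup G} {γ : MulAut G} (hγ : ∀ x ∈ U, γ x ∈ U) {u : G} (hu : u ∈ U) (k : ℕ) :
    ∃ v ∈ U, (MulAut.conj u * γ) ^ k = MulAut.conj v * γ ^ k := by
  induction k with
  | zero => exact ⟨1, one_mem _, by simp⟩
  | succ k ih =>
    obtain ⟨v, hv, h⟩ := ih
    refine ⟨u * γ v, mul_mem hu (hγ v hv), ?_⟩
    rw [pow_succ', h, map_mul, pow_succ']
    have := mul_conj γ v
    calc MulAut.conj u * γ * (MulAut.conj v * γ ^ k) = MulAut.conj u * (γ * MulAut.conj v) * γ ^ k := by group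
      _ = MulAut.conj u * (MulAut.conj (γ v) * γ) * γ ^ k := by rw [this]
      _ = _ := by group

/-- an element of finite order: the `2`-part as a power -/
theorem exists_two_part {A : Type*} [Group A] {ω : A} (h : 0 < orderOf ω) :
    ∃ c : ℕ, Two (ω ^ c) ∧ Odd (orderOf ((ω ^ c)⁻¹ * ω)) := by
  obtain ⟨a, b, hb, hab⟩ := Nat.exists_eq_two_pow_mul_odd h.ne'
  have hcop : Nat.Coprime (2 ^ a) b := Nat.Coprime.pow_left a (Nat.coprime_two_left.2 hb)
  obtain ⟨c, hc1, hc2⟩ := Nat.chineseRemainder hcop 1 0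
  have hbc : b ∣ c := (Nat.modEq_zero_iff_dvd).1 hc2
  refine ⟨c, ⟨a, ?_⟩, ?_⟩
  · rw [← pow_mul]
    apply orderOf_dvd_iff_pow_eq_one.1
    rw [hab, mul_comm]
    exact Nat.mul_dvd_mul hbc dvd_rfl
  · refine Odd.of_dvd_nat hb (orderOf_dvd_of_pow_eq_one ?_)
    have hcm : Commute (ω ^ c)⁻¹ ω := ((Commute.refl ω).pow_left c).inv_left
    rw [hcm.mul_pow, inv_pow, ← pow_mul, inv_mul_eq_one, pow_eq_pow_iff_modEq, hab]
    have := Nat.ModEq.mul_right' b hc1
    rwa [one_mul] at this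

end Grp

variable {I : Type*} {M : CoxeterMatrix I} {W : Type*} [Group W] {cs : CoxeterSystem M W} {C : Type*}
  {Δ : Bldg cs C} {G : Type*} [Group G] [MulAction G C] {p : ℕ}

variable [F : Cox cs]

theorem false_of_swap [Finite G] [Finite C] [hp : Fact p.Prime] (S : Sys Δ G p) (hp2 : p ≠ 2) (hth : Δ.Thick)
    (hG : ∀ x y : C, ∃ g : G, g • x = y) (hw0 : w0 cs ≠ 1) (hZ : ∀ g : G, MulAut.conj g = 1 → g = 1)
    (t : Tw Δ G) {r : ℕ} (hr : Odd r) (hτ : t.τ ^ r = 1)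
    (hev : ∀ n : G, n * n = 1 → n ≠ 1 → Even (orderOf (MulAut.conj n * t.τ)))
    {x0 y0 : C} (h0 : Δ.δ x0 y0 = w0 cs) {n0 : G} (hn0 : n0 * n0 = 1) (hn : n0 • x0 = y0)
    (h : ∀ s, Two s → s • x0 = x0 → s • y0 = y0 → (s * n0) * (s * n0) = 1) {x : C} (hx : Δ.δ x (t.θ x) = w0 cs) :
    False := by
  -- move the pair
  obtain ⟨g0, hg0⟩ := hG x0 x
  obtain ⟨v0, hv0, hv0d⟩ := S.exists_move (x := x) (z := g0 • y0) (z' := t.θ x) (by rw [hx, ← hg0, S.iso, h0])
  set g := v0 * g0 with hg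
  have hgx : g • x0 = x := by rw [hg, mul_smul, hg0, S.fix x v0 hv0]
  have hgy : g • y0 = t.θ x := by rw [hg, mul_smul, hv0d]
  set n := g * n0 * g⁻¹ with hnd
  have hnn : n * n = 1 := by
    have : n * n = g * (n0 * n0) * g⁻¹ := by rw [hnd]; group
    rw [this, hn0, mul_one, mul_inv_cancel]
  have hgx' : g⁻¹ • x = x0 := inv_smul_eq_iff.2 hgx.symm
  have hgy' : g⁻¹ • t.θ x = y0 := inv_smul_eq_iff.2 hgy.symm
  have hnx : n • x = t.θ x := by rw [hnd, mul_smul, mul_smul, hgx', hn, hgy]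
  have hnθ : n • t.θ x = x := by rw [← hnx, ← mul_smul, hnn, one_smul]
  have hs : ∀ s, Two s → s • x = x → s • t.θ x = t.θ x → (s * n) * (s * n) = 1 := by
    intro s h2 h3 h4
    have h5 : (g⁻¹ * s * g) • x0 = x0 := by rw [mul_smul, mul_smul, hgx, h3, hgx']
    have h6 : (g⁻¹ * s * g) • y0 = y0 := by rw [mul_smul, mul_smul, hgy, h4, hgy']
    have h7 := h (g⁻¹ * s * g) (by simpa using h2.conj g⁻¹) h5 h6
    have h8 : (s * n) * (s * n) = g * ((g⁻¹ * s * g) * n0 * ((g⁻¹ * s * g) * n0)) * g⁻¹ := by rw [hnd]; group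
    rw [h8, h7, mul_one, mul_inv_cancel]
  -- the automorphism `ω`
  set ω : MulAut G := MulAut.conj n * t.τ with hω
  have hωU : ∀ u ∈ S.U x, ω u ∈ S.U x := by
    intro u hu
    have h1 := S.conj_mem_U (τ_mem_U t hu) n
    rw [hnθ] at h1
    exact h1
  obtain ⟨c, hc2, hco⟩ := exists_two_part (ω := ω) (orderOf_pos ω)
  have hpowU : ∀ k : ℕ, ∀ u ∈ S.U x, (ω ^ k) u ∈ S.U x := by
    intro k
    induction k with
    | zero => intro u hu; exact hu
    | succ k ih =>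
      intro u hu
      rw [pow_succ', MulAut.mul_apply]
      exact hωU _ (ih u hu)
  -- `ω ^ r` is inner
  have hin : ∀ k : ℕ, ∃ v : G, ω ^ k = MulAut.conj v * t.τ ^ k := by
    intro k
    obtain ⟨v, -, hv⟩ := conj_mul_pow (U := ⊤) (γ := t.τ) (fun _ _ => trivial) (u := n) trivial k
    exact ⟨v, hv⟩
  obtain ⟨v, hv⟩ := hin r
  rw [hτ, mul_one] at hv
  -- the `2`-part is inner
  obtain ⟨s, hsω⟩ : ∃ s : G, ω ^ c = MulAut.conj s := by
    obtain ⟨a, ha⟩ := hc2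
    have hcop : Nat.Coprime r (2 ^ a) := Nat.Coprime.pow_right a (Nat.coprime_two_right.2 hr)
    obtain ⟨e, he1, he2⟩ := Nat.chineseRemainder hcop 0 1
    obtain ⟨f, rfl⟩ := (Nat.modEq_zero_iff_dvd).1 he1
    refine ⟨v ^ (c * f), ?_⟩
    have h1 : ω ^ c = (ω ^ c) ^ (r * f) := by
      conv_lhs => rw [← pow_one (ω ^ c)]
      rw [pow_eq_pow_iff_modEq]
      exact (he2.of_dvd (orderOf_dvd_of_pow_eq_one ha)).symm
    rw [h1, map_pow, ← hv, ← pow_mul, ← pow_mul]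
    congr 1
    ring
  have hs2 : Two s := by
    obtain ⟨a, ha⟩ := hc2
    refine ⟨a, hZ _ ?_⟩
    rw [map_pow, ← hsω, ha]
  have hsU : ∀ u ∈ S.U x, s * u * s⁻¹ ∈ S.U x := by
    intro u hu
    have h1 := hpowU c u hu
    rwa [hsω] at h1
  have hsU' : ∀ u ∈ S.U x, s⁻¹ * u * s ∈ S.U x := by
    intro u hu
    -- finiteness
    have h1 : (S.U x).map (MulAut.conj s).toMonoidHom = S.U x := by
      refine Subgroup.eq_of_le_of_card_ge ?_ ?_
      · rintro _ ⟨u, hu, rfl⟩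
        exact hsU u hu
      · rw [Subgroup.card_map_of_injective (MulAut.conj s).injective]
    rw [← h1] at hu
    obtain ⟨u', hu', rfl⟩ := hu
    change s⁻¹ * (s * u' * s⁻¹) * s ∈ S.U x
    have h2 : s⁻¹ * (s * u' * s⁻¹) * s = u' := by group
    rwa [h2]
  have hsx : s • x = x := by
    refine (eq_of_fix (S := S) hth (utrans S) fun u hu => ?_).symm
    have h1 := S.fix x _ (hsU' u hu)
    rw [mul_smul, mul_smul, inv_smul_eq_iff] at h1
    exact h1
  obtain ⟨d, hd, hsd⟩ := exists_fixed_dist S hp2 hs2 hsx (w0 cs)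
  obtain ⟨w, hw, hwd⟩ := S.exists_move (x := x) (z := d) (z' := t.θ x) (by rw [hd, hx])
  -- `s' = w s w⁻¹` fixes both
  set s' := w * s * w⁻¹ with hs'
  have hs'x : s' • x = x := by
    rw [hs', mul_smul, mul_smul, inv_smul_eq_iff.2 (S.fix x w hw).symm, hsx, S.fix x w hw]
  have hs'θ : s' • t.θ x = t.θ x := by rw [hs', mul_smul, mul_smul, ← hwd, inv_smul_smul, hsd]
  have hs'2 : Two s' := hs2.conj w
  have hu : s'⁻¹ * s ∈ S.U x := by
    have h1 : s'⁻¹ * s = w * (s⁻¹ * w⁻¹ * s) := by rw [hs']; group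
    rw [h1]
    exact mul_mem hw (hsU' _ (inv_mem hw))
  have hinv2 : Two s'⁻¹ := by
    obtain ⟨a, ha⟩ := hs'2
    exact ⟨a, by rw [inv_pow, ha, inv_one]⟩
  have hnew := hs s'⁻¹ hinv2 (inv_smul_eq_iff.2 hs'x.symm) (inv_smul_eq_iff.2 hs'θ.symm)
  have hne : s'⁻¹ * n ≠ 1 := by
    intro h1
    have h2 : n = s' := (inv_mul_eq_one.1 h1).symm
    rw [h2, hs'x] at hnx
    rw [← hnx, Δ.δ_self] at hx
    exact hw0 hx.symm
  have hev' := hev _ hnew hne
  -- the odd order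
  have hodd : Odd (orderOf (MulAut.conj (s'⁻¹ * n) * t.τ)) := by
    have h1 : MulAut.conj (s'⁻¹ * n) * t.τ = MulAut.conj (s'⁻¹ * s) * ((ω ^ c)⁻¹ * ω) := by
      have h2 : MulAut.conj (s'⁻¹ * s) = MulAut.conj s'⁻¹ * MulAut.conj s := map_mul _ _ _
      have h3 : MulAut.conj (s'⁻¹ * n) = MulAut.conj s'⁻¹ * MulAut.conj n := map_mul _ _ _
      rw [hsω, h2, h3, hω]; group
    have h2 : ∀ u ∈ S.U x, ((ω ^ c)⁻¹ * ω) u ∈ S.U x := by
      intro u hu
      rw [hsω, MulAut.mul_apply, ← map_inv]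
      have := hsU' _ (hωU u hu)
      simpa [MulAut.conj_apply] using this
    obtain ⟨v', hv', h3⟩ := conj_mul_pow h2 hu (orderOf ((ω ^ c)⁻¹ * ω))
    rw [pow_orderOf_eq_one, mul_one, ← h1] at h3
    obtain ⟨m, hm⟩ := IsPGroup.iff_card.1 (S.isP x)
    have h4 : v' ^ p ^ m = 1 := by
      rw [← hm]
      exact congrArg Subtype.val (pow_card_eq_one' (x := (⟨v', hv'⟩ : S.U x)))
    refine Odd.of_dvd_nat (hco.mul ((hp.out.odd_of_ne_two hp2).pow (n := m))) (orderOf_dvd_of_pow_eq_one ?_)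
    rw [pow_mul, h3, ← map_pow, h4, map_one]
  exact (Nat.not_even_iff_odd.2 hodd) hev'

end Cfsg.Agent.H470.WZero
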