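import Cfsg.Agent.Nodes.Unique
import Cfsg.Agent.Nodes.PairOf
import Cfsg.Agent.Nodes.Bruhat
import Cfsg.Agent.H470.WZero

/-!
# Simple bonds

In a group with root group data of odd characteristic and commutative torus, with a simple bond in the diagram, there are
a `2`-element `z` of the torus and a representative `n i` with `n i z (n i)⁻¹ ≠ z`.
-/

set_option autoImplicit false
set_option linter.unusedSectionVars false

namespace Cfsg.Agent.H470.Bond

open CoxeterSystem Cfsg.Agent.ChevalleyStructure.CoxeterGeom Cfsg.Agent.Tits.Roots Cfsg.Agent.Tits.Core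
  Cfsg.Agent.Tits.RootComb Cfsg.Agent.Nodes.Comb Cfsg.Agent.Nodes.Reps Cfsg.Agent.Nodes.BNOf
  Cfsg.Agent.Nodes.BNOf.RGD
open scoped commutatorElement
open Cfsg.Agent.H470.Types (Two)

variable {I W Y : Type*} [Fintype I] [DecidableEq I] [Group W] [Group Y] {M : CoxeterMatrix I}
  {cs : CoxeterSystem M W} {A : I → I → ℤ} {h : IsCartan M A} {p : ℕ} {T : Subgroup Y} {n : I → Y}
  {X : (I → ℤ) → Subgroup Y}

section Roots

theorem pos_of {m x : ℤ} (hm : 0 < m) (h : 0 < m * x) : 0 < x := by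
  by_contra hx
  push Not at hx
  nlinarith

theorem nonneg_of_pos {z : I → ℤ} (hz : IsRoot cs h z) {k : I} (hk : 0 < z k) : 0 ≤ z := by
  rcases hz.pos_or_neg with h | h
  · exact h
  · have := h k
    simp only [Pi.zero_apply] at this
    omega

theorem pairing_supp {i j : I} (hij : i ≠ j) {z : I → ℤ} (hs : Supp i j z) (k : I) :
    pairing A k z = A k i * z i + A k j * z j := by
  unfold pairing
  rw [← Finset.sum_subset (s₁ := {i, j}) (Finset.subset_univ _)]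
  · rw [Finset.sum_pair hij]
  · intro l _ hl
    simp only [Finset.mem_insert, Finset.mem_singleton, not_or] at hl
    rw [hs l hl.1 hl.2, mul_zero]

theorem root_eq {i j : I} (hij : i ≠ j) (h1 : A i j = -1) (h2 : A j i = -1) {z : I → ℤ} (hz : IsRoot cs h z)
    (hs : Supp i j z) (hi : 0 < z i) (hj : 0 < z j) : z = sr i + sr j := by
  have e1 := pairing_supp (A := A) hij hs i
  have e2 := pairing_supp (A := A) hij hs j
  rw [h.diag, h1] at e1
  rw [h.diag, h2] at e2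
  have h3 : 0 ≤ z j - z i := by
    have h4 := nonneg_of_pos (hz.act (cs.simple i)) (k := j) (by
      rw [rep_simple_apply _ _ _ _ _ hij.symm]; exact hj) i
    rw [rep_simple_apply_self, e1, Pi.zero_apply] at h4
    linarith
  have h4 : 0 ≤ z i - z j := by
    have h4 := nonneg_of_pos (hz.act (cs.simple j)) (k := i) (by
      rw [rep_simple_apply _ _ _ _ _ hij]; exact hi) j
    rw [rep_simple_apply_self, e2, Pi.zero_apply] at h4
    linarith
  have h5 : z i = z j := by omega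
  have h6 : rep cs h (cs.simple i) z = (z j) • sr j := by
    have e3 : pairing A i z = z j := by rw [e1]; omega
    have e4 := supp_eq hij hs
    rw [h5] at e4
    rw [rep_simple_eq, e3, sub_eq_iff_eq_add, add_comm]
    exact e4
  have h7 := isUnit_of_smul _ _ (hz.act (cs.simple i)) _ h6
  have h8 : z j = 1 := by
    rcases Int.isUnit_iff.1 h7 with h9 | h9
    · exact h9
    · omega
  rw [supp_eq hij hs, h5, h8, one_smul, one_smul]

theorem isRoot_add {i j : I} (hij : i ≠ j) (h2 : A j i = -1) : IsRoot cs h (sr i + sr j) := by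
  have h3 := (isRoot_sr cs h i).act (cs.simple j)
  rw [rep_simple_eq, pairing_supp hij (supp_sr_left i j), h.diag, h2, sr_self, sr_ne hij.symm] at h3
  convert h3 using 1
  module

theorem rep_simple_sr_other {i j : I} (hij : i ≠ j) (h2 : A j i = -1) :
    rep cs h (cs.simple j) (sr i) = sr i + sr j := by
  rw [rep_simple_eq, pairing_supp hij (supp_sr_left i j), h.diag, h2, sr_self, sr_ne hij.symm]
  module

theorem rep_simple_add {i j : I} (hij : i ≠ j) (h2 : A j i = -1) :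
    rep cs h (cs.simple j) (sr i + sr j) = sr i := by
  rw [← rep_simple_sr_other (cs := cs) (h := h) hij h2, ← rep_mul_apply, cs.simple_mul_simple_self, map_one,
    Module.End.one_apply]

theorem btwn_simple {i j : I} (hij : i ≠ j) (h1 : A i j = -1) (h2 : A j i = -1) {z : I → ℤ}
    (hz : Btwn cs h (sr i) (sr j) z) : z = sr i + sr j := by
  obtain ⟨hr, m, a, b, hm, ha, hb, he⟩ := hz
  have key : ∀ k, m * z k = a * sr i k + b * sr j k := fun k => by
    have := congrFun he k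
    simpa using this
  refine root_eq hij h1 h2 hr ?_ ?_ ?_
  · intro k hki hkj
    have := key k
    rw [sr_ne hki, sr_ne hkj, mul_zero, mul_zero, add_zero] at this
    exact (mul_eq_zero.1 this).resolve_left hm.ne'
  · have := key i
    rw [sr_self, sr_ne hij, mul_one, mul_zero, add_zero] at this
    exact pos_of hm (by rw [this]; exact ha)
  · have := key j
    rw [sr_self, sr_ne hij.symm, mul_one, mul_zero, zero_add] at this
    exact pos_of hm (by rw [this]; exact hb)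

theorem not_btwn_neg {i j : I} (hij : i ≠ j) (z : I → ℤ) : ¬ Btwn cs h (sr i) (-sr j) z := by
  rintro ⟨hr, m, a, b, hm, ha, hb, he⟩
  have key : ∀ k, m * z k = a * sr i k - b * sr j k := fun k => by
    have := congrFun he k
    simp only [Pi.smul_apply, Pi.add_apply, Pi.neg_apply, smul_eq_mul] at this
    linarith
  have hi : 0 < z i := by
    have := key i
    rw [sr_self, sr_ne hij, mul_one, mul_zero, sub_zero] at this
    exact pos_of hm (by rw [this]; exact ha)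
  have hj : 0 ≤ z j := nonneg_of_pos hr hi j
  have := key j
  rw [sr_self, sr_ne hij.symm, mul_one, mul_zero, zero_sub] at this
  have h3 : 0 ≤ m * z j := mul_nonneg hm.le hj
  omega

end Roots

/-! ### the two-dimensional module -/

section Grp

variable {Xi Xj Xk Xm : Subgroup Y}

theorem conj_conj (hij : ∀ x ∈ Xi, ∀ b ∈ Xj, x⁻¹ * b⁻¹ * x * b ∈ Xk) (him : ∀ x ∈ Xi, ∀ u ∈ Xm, u * x = x * u)
    (hik : ∀ x ∈ Xi, ∀ y ∈ Xk, x * y = y * x) (hjk : ∀ b ∈ Xj, ∀ y ∈ Xk, b * y = y * b)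
    (hkm : ∀ y ∈ Xk, ∀ u ∈ Xm, y⁻¹ * u * y * u⁻¹ ∈ Xi) (hinf : ∀ x ∈ Xi, x ∈ Xk → x = 1) {a u b m : Y} (ha : a ∈ Xj)
    (hu : u ∈ Xm) (hb : b ∈ Xj) (hm : m = a⁻¹ * u * b⁻¹) (h1 : ∀ x ∈ Xi, m * x * m⁻¹ ∈ Xk)
    (h2 : ∀ x ∈ Xk, m * x * m⁻¹ ∈ Xi) {x : Y} (hx : x ∈ Xi) :
    m * x * m⁻¹ = x⁻¹ * b⁻¹ * x * b ∧ m * (m * x * m⁻¹) * m⁻¹ = x⁻¹ := by
  obtain ⟨c1, hc1⟩ : ∃ c1, c1 = x⁻¹ * b⁻¹ * x * b := ⟨_, rfl⟩
  have hc1k : c1 ∈ Xk := hc1 ▸ hij x hx b hb
  obtain ⟨e1, he1⟩ : ∃ e1, e1 = c1⁻¹ * u * c1 * u⁻¹ := ⟨_, rfl⟩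
  have he1i : e1 ∈ Xi := he1 ▸ hkm c1 hc1k u hu
  obtain ⟨c2, hc2⟩ : ∃ c2, c2 = (x * e1)⁻¹ * a⁻¹ * (x * e1) * a := ⟨_, rfl⟩
  have hc2k : c2 ∈ Xk := hc2 ▸ hij _ (mul_mem hx he1i) a ha
  have ea : a⁻¹ * c1 * a = c1 := by rw [mul_assoc, ← hjk a ha c1 hc1k, inv_mul_cancel_left]
  have eb : b⁻¹ * c1 * b = c1 := by rw [mul_assoc, ← hjk b hb c1 hc1k, inv_mul_cancel_left]
  have eu : u * x * u⁻¹ = x := by rw [him x hx u hu, mul_inv_cancel_right]
  have euc : u * c1 * u⁻¹ = e1 * c1 := by rw [hik e1 he1i c1 hc1k, he1]; group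
  have s1 : m * x * m⁻¹ = x * e1 * (c2 * c1) := by
    calc m * x * m⁻¹ = a⁻¹ * ((u * x * u⁻¹) * (u * c1 * u⁻¹)) * a := by rw [hm, hc1]; group
      _ = (a⁻¹ * (x * e1) * a) * (a⁻¹ * c1 * a) := by rw [eu, euc]; group
      _ = _ := by rw [ea, hc2]; group
  have h3 : x * e1 = 1 := by
    refine hinf _ (mul_mem hx he1i) ?_
    have h4 := h1 x hx
    rw [s1] at h4
    exact (Subgroup.mul_mem_cancel_right _ (mul_mem hc2k hc1k)).1 h4
  have h4 : c2 = 1 := by rw [hc2, h3]; group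
  have s2 : m * x * m⁻¹ = c1 := by rw [s1, h3, h4, one_mul, one_mul]
  refine ⟨s2.trans hc1, ?_⟩
  have h5 : e1 = x⁻¹ := (inv_eq_of_mul_eq_one_right h3).symm
  obtain ⟨c3, hc3⟩ : ∃ c3, c3 = (x⁻¹)⁻¹ * a⁻¹ * x⁻¹ * a := ⟨_, rfl⟩
  have hc3k : c3 ∈ Xk := hc3 ▸ hij _ (inv_mem hx) a ha
  have s3 : m * c1 * m⁻¹ = x⁻¹ * (c3 * c1) := by
    calc m * c1 * m⁻¹ = a⁻¹ * (u * (b⁻¹ * c1 * b) * u⁻¹) * a := by rw [hm]; group
      _ = (a⁻¹ * x⁻¹ * a) * (a⁻¹ * c1 * a) := by rw [eb, euc, h5]; group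
      _ = _ := by rw [ea, hc3]; group
  have h6 : c3 * c1 = 1 := by
    refine hinf _ ?_ (mul_mem hc3k hc1k)
    have h7 := h2 c1 hc1k
    rw [s3] at h7
    exact (Subgroup.mul_mem_cancel_left _ (inv_mem hx)).1 h7
  rw [s2, s3, h6, mul_one]

/-- an element inverting `Xi`, `Xj` and `Xk` -/
theorem comm_of_inv (hij : ∀ x ∈ Xi, ∀ b ∈ Xj, x⁻¹ * b⁻¹ * x * b ∈ Xk)
    (hik : ∀ x ∈ Xi, ∀ y ∈ Xk, x * y = y * x) (hjk : ∀ b ∈ Xj, ∀ y ∈ Xk, b * y = y * b) {z : Y}
    (hi : ∀ x ∈ Xi, z * x * z⁻¹ = x⁻¹) (hj : ∀ x ∈ Xj, z * x * z⁻¹ = x⁻¹) (hk : ∀ x ∈ Xk, z * x * z⁻¹ = x⁻¹)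
    {x b : Y} (hx : x ∈ Xi) (hb : b ∈ Xj) : (x⁻¹ * b⁻¹ * x * b) * (x⁻¹ * b⁻¹ * x * b) = 1 := by
  obtain ⟨w, hw⟩ : ∃ w, w = x⁻¹ * b⁻¹ * x * b := ⟨_, rfl⟩
  have hwk : w ∈ Xk := hw ▸ hij x hx b hb
  have e1 : x * w = w * x := hik x hx w hwk
  have e2 : b * w = w * b := hjk b hb w hwk
  have e3 : z * w * z⁻¹ = x * b * x⁻¹ * b⁻¹ := by
    have h1 : z * x⁻¹ * z⁻¹ = x := by
      have := congrArg (fun y => y⁻¹) (hi x hx)
      simp only [mul_inv_rev, inv_inv] at this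
      rw [← mul_assoc] at this
      exact this
    have h2 : z * b⁻¹ * z⁻¹ = b := by
      have := congrArg (fun y => y⁻¹) (hj b hb)
      simp only [mul_inv_rev, inv_inv] at this
      rw [← mul_assoc] at this
      exact this
    calc z * w * z⁻¹ = (z * x⁻¹ * z⁻¹) * (z * b⁻¹ * z⁻¹) * (z * x * z⁻¹) * (z * b * z⁻¹) := by rw [hw]; group
      _ = _ := by rw [h1, h2, hi x hx, hj b hb]
  have e4 : x * b = b * x * w := by rw [hw]; group
  rw [hk w hwk, e4] at e3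
  have e5 : b * x * w * x⁻¹ * b⁻¹ = w := by
    rw [mul_assoc b x w, e1, ← mul_assoc b w x, e2]; group
  rw [e5] at e3
  rw [← hw]
  calc w * w = w * w⁻¹ := by rw [e3]
    _ = 1 := mul_inv_cancel w

theorem inv_pow_odd {z x : Y} (h : z * x * z⁻¹ = x⁻¹) {k : ℕ} (hk : Odd k) : z ^ k * x * (z ^ k)⁻¹ = x⁻¹ := by
  obtain ⟨l, rfl⟩ := hk
  have h0 : z * x⁻¹ * z⁻¹ = x := by
    have := congrArg (fun y => y⁻¹) h
    simp only [mul_inv_rev, inv_inv] at this
    rw [← mul_assoc] at this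
    exact this
  have h1 : Commute (z * z) x⁻¹ := by
    have h2 : (z * z) * x⁻¹ * (z * z)⁻¹ = x⁻¹ := by
      calc (z * z) * x⁻¹ * (z * z)⁻¹ = z * (z * x⁻¹ * z⁻¹) * z⁻¹ := by group
        _ = _ := by rw [h0, h]
    exact mul_inv_eq_iff_eq_mul.1 h2
  have h3 : Commute ((z * z) ^ l) x⁻¹ := h1.pow_left l
  have h4 : z ^ (2 * l + 1) = (z * z) ^ l * z := by rw [pow_succ, pow_mul, pow_two]
  rw [h4]
  calc (z * z) ^ l * z * x * ((z * z) ^ l * z)⁻¹ = (z * z) ^ l * (z * x * z⁻¹) * ((z * z) ^ l)⁻¹ := by group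
    _ = x⁻¹ := by rw [h, h3.eq, mul_inv_cancel_right]

end Grp

/-! ### root group data -/

section Main

variable (R : RGD cs h p T n X)

omit R in
theorem btw_le {x y : I → ℤ} {K : Subgroup Y} (hK : ∀ z, Btwn cs h x y z → X z ≤ K) : btw cs h X x y ≤ K :=
  iSup_le fun z => hK z.1 z.2

omit R in
theorem Sup_singleton (x : I → ℤ) : Sup X {x} = X x := by
  apply le_antisymm
  · exact Sup_le fun z hz => by rw [Set.mem_singleton_iff.1 hz]
  · exact le_Sup rfl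

omit R in
theorem Sup_empty : Sup X (∅ : Set (I → ℤ)) = ⊥ := le_bot_iff.1 (Sup_le fun z hz => absurd hz (Set.notMem_empty z))

include R in
theorem inf_one [Finite W] {x y : I → ℤ} (hx : IsRoot cs h x) (hy : IsRoot cs h y) (hx0 : 0 ≤ x) (hy0 : 0 ≤ y)
    (hxy : x ≠ y) {g : Y} (hg : g ∈ X x) (hg' : g ∈ X y) : g = 1 := by
  have h1 := Nodes.Unique.inf_eq R (S := {x}) (S' := {y}) (by rintro _ rfl; exact ⟨hx, hx0⟩)
    (by rintro _ rfl; exact ⟨hy, hy0⟩)
    (by rintro a ha b hb z hz; rw [Set.mem_singleton_iff] at *; subst ha hb; exact Nodes.Unique.btwn_self hx hz)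
    (by rintro a ha b hb z hz; rw [Set.mem_singleton_iff] at *; subst ha hb; exact Nodes.Unique.btwn_self hy hz)
  have h2 : ({x} : Set (I → ℤ)) ∩ {y} = ∅ := by
    ext z
    simp only [Set.mem_inter_iff, Set.mem_singleton_iff, Set.mem_empty_iff_false, iff_false, not_and]
    rintro rfl h; exact hxy h
  rw [h2, Sup_singleton, Sup_singleton, Sup_empty] at h1
  exact Subgroup.mem_bot.1 (h1 ▸ Subgroup.mem_inf.2 ⟨hg, hg'⟩)

include R in
/-- **Simple bonds.** -/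
theorem exists_moved [Finite W] [Finite Y] (hp : p.Prime) (hp2 : p ≠ 2) {i j : I} (hM : M i j = 3) :
    ∃ z ∈ T, Two z ∧ ∃ k, n k * z * (n k)⁻¹ ≠ z := by
  by_contra hcon
  push Not at hcon
  have hij : i ≠ j := by
    rintro rfl
    rw [M.diagonal] at hM
    omega
  obtain ⟨h1, h2⟩ : A i j = -1 ∧ A j i = -1 := by
    rcases h.rel i j hij with h3 | h3 | h3 | h3
    · rw [hM] at h3; omega
    · exact h3.2
    · rw [hM] at h3; omega
    · rw [hM] at h3; omega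
  have hri := isRoot_sr cs h i
  have hrj := isRoot_sr cs h j
  have hrk : IsRoot cs h (sr i + sr j) := isRoot_add hij h2
  have hi0 : (0 : I → ℤ) ≤ sr i := sr_nonneg i
  have hj0 : (0 : I → ℤ) ≤ sr j := sr_nonneg j
  have hk0 : (0 : I → ℤ) ≤ sr i + sr j := add_nonneg hi0 hj0
  -- the coordinates
  have ii : sr i i = 1 := sr_self i
  have jj : sr j j = 1 := sr_self j
  have ij : sr i j = 0 := sr_ne hij.symm
  have ji : sr j i = 0 := sr_ne hij
  have ne1 : sr i ≠ sr j := fun h3 => by have := congrFun h3 i; rw [ii, ji] at this; omega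
  have ne2 : sr i ≠ -sr j := fun h3 => by have := congrFun h3 i; rw [ii, Pi.neg_apply, ji] at this; omega
  have ne3 : sr i ≠ sr i + sr j := fun h3 => by have := congrFun h3 j; rw [Pi.add_apply, ij, jj] at this; omega
  have ne4 : sr i ≠ -(sr i + sr j) := fun h3 => by
    have := congrFun h3 i; rw [Pi.neg_apply, Pi.add_apply, ii, ji] at this; omega
  have ne5 : sr j ≠ sr i + sr j := fun h3 => by have := congrFun h3 i; rw [Pi.add_apply, ii, ji] at this; omega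
  have ne6 : sr j ≠ -(sr i + sr j) := fun h3 => by
    have := congrFun h3 i; rw [Pi.neg_apply, Pi.add_apply, ii, ji] at this; omega
  have ne7 : sr i + sr j ≠ -sr j := fun h3 => by
    have := congrFun h3 i; rw [Pi.add_apply, Pi.neg_apply, ii, ji] at this; omega
  have ne8 : sr i + sr j ≠ - -sr j := fun h3 => by
    have := congrFun h3 i; rw [neg_neg, Pi.add_apply, ii, ji] at this; omega
  have ne9 : sr i ≠ - -sr j := fun h3 => by rw [neg_neg] at h3; exact ne1 h3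
  -- the hypotheses of the group lemmas
  have Hij : ∀ x ∈ X (sr i), ∀ b ∈ X (sr j), x⁻¹ * b⁻¹ * x * b ∈ X (sr i + sr j) := by
    intro x hx b hb
    have h3 := R.comm (sr i) (sr j) hri hrj ne1 ne2 x⁻¹ (inv_mem hx) b⁻¹ (inv_mem hb)
    have h4 : ⁅x⁻¹, b⁻¹⁆ = x⁻¹ * b⁻¹ * x * b := by rw [commutatorElement_def, inv_inv, inv_inv]
    rw [h4] at h3
    exact btw_le (fun z hz => by rw [btwn_simple hij h1 h2 hz]) h3
  have Him : ∀ x ∈ X (sr i), ∀ u ∈ X (-sr j), u * x = x * u := by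
    intro x hx u hu
    have h3 := Nodes.PairOf.comm_of_no_btwn R hri hrj.neg ne2 ne9 (fun z => not_btwn_neg hij z) x hx u hu
    exact (commutatorElement_eq_one_iff_mul_comm.1 h3).symm
  have Hik : ∀ x ∈ X (sr i), ∀ y ∈ X (sr i + sr j), x * y = y * x := by
    intro x hx y hy
    refine commutatorElement_eq_one_iff_mul_comm.1 (Nodes.PairOf.comm_of_no_btwn R hri hrk ne3 ne4
      (fun z hz => ?_) x hx y hy)
    have h3 := (hz.act (cs.simple i)).symm
    rw [rep_simple_sr, add_comm (sr i), rep_simple_add hij.symm h1] at h3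
    exact not_btwn_neg hij.symm _ h3
  have Hjk : ∀ x ∈ X (sr j), ∀ y ∈ X (sr i + sr j), x * y = y * x := by
    intro x hx y hy
    refine commutatorElement_eq_one_iff_mul_comm.1 (Nodes.PairOf.comm_of_no_btwn R hrj hrk ne5 ne6
      (fun z hz => ?_) x hx y hy)
    have h3 := (hz.act (cs.simple j)).symm
    rw [rep_simple_sr, rep_simple_add hij h2] at h3
    exact not_btwn_neg hij _ h3
  have Hkm : ∀ y ∈ X (sr i + sr j), ∀ u ∈ X (-sr j), y⁻¹ * u * y * u⁻¹ ∈ X (sr i) := by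
    intro y hy u hu
    have h3 := R.comm (sr i + sr j) (-sr j) hrk hrj.neg ne7 ne8 y⁻¹ (inv_mem hy) u hu
    have h4 : ⁅y⁻¹, u⁆ = y⁻¹ * u * y * u⁻¹ := by rw [commutatorElement_def, inv_inv]
    rw [h4] at h3
    refine btw_le (fun z hz => ?_) h3
    have h5 := hz.act (cs.simple j)
    rw [rep_simple_add hij h2, map_neg, rep_simple_sr, neg_neg] at h5
    have h6 := btwn_simple hij h1 h2 h5
    have h7 : z = sr i := by
      rw [← rep_simple_add (cs := cs) (h := h) hij h2, ← h6, ← rep_mul_apply, cs.simple_mul_simple_self, map_one,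
        Module.End.one_apply]
    rw [h7]
  have Hinf : ∀ x ∈ X (sr i), x ∈ X (sr i + sr j) → x = 1 := fun x hx hx' =>
    inf_one R hri hrk hi0 hk0 ne3 hx hx'
  -- the element `m`
  obtain ⟨u, hu, hu1⟩ := (Subgroup.bot_or_exists_ne_one (X (-sr j))).resolve_left
    (Nodes.Bruhat.X_ne_bot R hrj.neg)
  obtain ⟨a, ha, t, ht, b, hb, hab⟩ := R.rk1 j u hu hu1
  have hm : t * n j = a⁻¹ * u * b⁻¹ := by rw [hab]; group
  have hRp : Rp cs R.nsys (cs.simple j) (t * n j) := by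
    have := (rp_of_mem (cs := cs) (hN := R.nsys) ht).mul (rp_simple cs R.nsys j)
    rwa [one_mul] at this
  have Hm1 : ∀ x ∈ X (sr i), (t * n j) * x * (t * n j)⁻¹ ∈ X (sr i + sr j) := by
    intro x hx
    have := R.conj_mem hRp hri hx
    rwa [rep_simple_sr_other hij h2] at this
  have Hm2 : ∀ x ∈ X (sr i + sr j), (t * n j) * x * (t * n j)⁻¹ ∈ X (sr i) := by
    intro x hx
    have := R.conj_mem hRp hrk hx
    rwa [rep_simple_add hij h2] at this
  have key := fun x (hx : x ∈ X (sr i)) => conj_conj Hij Him Hik Hjk Hkm Hinf ha hu hb hm Hm1 Hm2 hx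
  set m := t * n j with hmdef
  have hz0T : m * m ∈ T := by
    have := hRp.mul hRp
    rw [cs.simple_mul_simple_self] at this
    exact this.mem_of_one
  have hinv0 : ∀ x ∈ X (sr i), (m * m) * x * (m * m)⁻¹ = x⁻¹ := by
    intro x hx
    rw [← (key x hx).2]; group
  obtain ⟨e, f, hf, hef⟩ := Nat.exists_eq_two_pow_mul_odd (orderOf_pos (m * m)).ne'
  obtain ⟨z, hz⟩ : ∃ z, z = (m * m) ^ f := ⟨_, rfl⟩
  have hzT : z ∈ T := hz ▸ pow_mem hz0T f
  have hz2 : Two z := ⟨e, by rw [hz, ← pow_mul, mul_comm, ← hef, pow_orderOf_eq_one]⟩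
  have hzi : ∀ x ∈ X (sr i), z * x * z⁻¹ = x⁻¹ := fun x hx => hz ▸ inv_pow_odd (hinv0 x hx) hf
  have hcn := hcon z hzT hz2
  have htrans : ∀ (k : I) (x y : I → ℤ), IsRoot cs h y → rep cs h (cs.simple k) y = x →
      (∀ g ∈ X x, z * g * z⁻¹ = g⁻¹) → ∀ g ∈ X y, z * g * z⁻¹ = g⁻¹ := by
    intro k x y hy hyx hx g hg
    have h3 : n k * g * (n k)⁻¹ ∈ X x := by
      have := R.conj_mem (rp_simple cs R.nsys k) hy hg
      rwa [hyx] at this
    have h4 := hx _ h3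
    have h5 : n k * (z * g * z⁻¹) * (n k)⁻¹ = n k * g⁻¹ * (n k)⁻¹ := by
      calc n k * (z * g * z⁻¹) * (n k)⁻¹ = (n k * z * (n k)⁻¹) * (n k * g * (n k)⁻¹) * (n k * z * (n k)⁻¹)⁻¹ := by group
        _ = z * (n k * g * (n k)⁻¹) * z⁻¹ := by rw [hcn k]
        _ = (n k * g * (n k)⁻¹)⁻¹ := h4
        _ = _ := by group
    exact mul_left_cancel (mul_right_cancel h5)
  have hzk : ∀ x ∈ X (sr i + sr j), z * x * z⁻¹ = x⁻¹ :=
    htrans j (sr i) (sr i + sr j) hrk (rep_simple_add hij h2) hzi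
  have hzj : ∀ x ∈ X (sr j), z * x * z⁻¹ = x⁻¹ :=
    htrans i (sr i + sr j) (sr j) hrj (by rw [rep_simple_sr_other hij.symm h1, add_comm]) hzk
  obtain ⟨x, hx, hx1⟩ := (Subgroup.bot_or_exists_ne_one (X (sr i))).resolve_left (Nodes.Bruhat.X_ne_bot R hri)
  have h3 := comm_of_inv Hij Hik Hjk hzi hzj hzk hx hb
  have h4 : x⁻¹ * b⁻¹ * x * b = 1 := by
    obtain ⟨l, hl⟩ := (R.pgrp' hrk) ⟨_, Hij x hx b hb⟩
    have hl' : (x⁻¹ * b⁻¹ * x * b) ^ p ^ l = 1 := by simpa using congrArg Subtype.val hl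
    have h5 : orderOf (x⁻¹ * b⁻¹ * x * b) ∣ 2 := orderOf_dvd_of_pow_eq_one (by rw [pow_two]; exact h3)
    have h6 : orderOf (x⁻¹ * b⁻¹ * x * b) ∣ p ^ l := orderOf_dvd_of_pow_eq_one hl'
    have h7 := Nat.eq_one_of_dvd_coprimes (Nat.Coprime.pow_right l ((Nat.coprime_primes Nat.prime_two hp).2 hp2.symm)) h5 h6
    exact orderOf_eq_one_iff.1 h7
  have h5 := (key x hx).1
  rw [h4, mul_inv_eq_one] at h5
  exact hx1 (mul_eq_left.1 h5)

end Main

end Cfsg.Agent.H470.Bond
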