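import Cfsg.Agent.H470.GrpRes
import Cfsg.Agent.H470.Bond
import Cfsg.Agent.H463.LiePSL
import Cfsg.Agent.H519.LieRank
import Cfsg.Agent.H69.CosetBldg

/-!
# The families of Lie type

`NoHyp K` : no automorphism of `K` satisfies `Hyp`.
-/

set_option autoImplicit false
set_option linter.unusedSectionVars false

namespace Cfsg.Agent.H470

open Cfsg Cfsg.Agent.FixBN Cfsg.Agent.Omega.ML.Ex.Typ
open Cfsg.Agent.H470.Types (Two)

/-- No automorphism of `K` is a minimal counterexample. -/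
def NoHyp (K : Type*) [Group K] : Prop :=
  (∀ g : K, MulAut.conj g = 1 → g = 1) → ∀ (τ : MulAut K) (r : ℕ), ¬ Hyp τ r

section Transport

variable {K L : Type*} [Group K] [Group L]

/-- transport of automorphisms -/
def trE (e : K ≃* L) : MulAut K ≃* MulAut L where
  toFun x := (e.symm.trans x).trans e
  invFun x := (e.trans x).trans e.symm
  left_inv x := by ext; simp
  right_inv x := by ext; simp
  map_mul' x y := by ext; simp

theorem trE_apply (e : K ≃* L) (x : MulAut K) (l : L) : trE e x l = e (x (e.symm l)) := rfl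

theorem trE_conj (e : K ≃* L) (g : K) : trE e (MulAut.conj g) = MulAut.conj (e g) := by
  ext l
  simp [trE_apply]

theorem RadO.tr (e : K ≃* L) {τ : MulAut K} (h : RadO τ) : RadO (trE e τ) := by
  intro M hM hx
  set M' : Subgroup K := M.map e.symm.toMonoidHom with hM'
  have hmem : ∀ {k : K}, k ∈ M' ↔ e k ∈ M := by
    intro k
    constructor
    · rintro ⟨m', hm', rfl⟩
      simpa using hm'
    · intro h1
      exact ⟨e k, h1, by simp⟩
  have hne : M' ≠ ⊤ := by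
    intro h1
    apply hM
    rw [eq_top_iff]
    intro l _
    have h2 : e.symm l ∈ M' := by rw [h1]; exact Subgroup.mem_top _
    rw [hmem] at h2
    simpa using h2
  have hx' : ∀ k ∈ M', τ k ∈ M' := by
    intro k hk
    rw [hmem] at hk ⊢
    have := hx _ hk
    rw [trE_apply] at this
    simpa using this
  obtain ⟨N, hN1, hN2, hN3, hN4⟩ := h M' hne hx'
  refine ⟨N.map e.toMonoidHom, ?_, ?_, ?_, ?_⟩
  · rintro _ ⟨n, hn, rfl⟩
    exact hmem.1 (hN1 hn)
  · rintro m hm _ ⟨n, hn, rfl⟩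
    refine ⟨e.symm m * n * (e.symm m)⁻¹, hN2 _ (hmem.2 (by simpa using hm)) n hn, by simp⟩
  · rwa [Subgroup.card_map_of_injective e.injective]
  · intro m hm
    refine ⟨(e.symm m)⁻¹ * τ (e.symm m), hN4 _ (hmem.2 (by simpa using hm)), ?_⟩
    rw [trE_apply]
    simp

theorem Hyp.tr (e : K ≃* L) {τ : MulAut K} {r : ℕ} (h : Hyp τ r) : Hyp (trE e τ) r where
  prime := h.prime
  two := h.two
  ne := by
    intro h1
    apply h.ne
    exact (trE e).injective (by rw [h1, map_one])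
  pow := by rw [← map_pow, h.pow, map_one]
  gen := by
    intro g
    have h1 := h.gen (e.symm g)
    have h2 : (Subgroup.closure ({τ, MulAut.conj (e.symm g) * τ * (MulAut.conj (e.symm g))⁻¹} : Set (MulAut K))).map
        (trE e).toMonoidHom = Subgroup.closure ({trE e τ, MulAut.conj g * trE e τ * (MulAut.conj g)⁻¹} : Set (MulAut L)) := by
      rw [MonoidHom.map_closure, Set.image_pair]
      congr 2
      simp [trE_conj]
    rw [← h2, Subgroup.card_map_of_injective (trE e).injective]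
    exact h1
  rad := h.rad.tr e

theorem NoHyp.congr (e : K ≃* L) (h : NoHyp K) : NoHyp L := by
  intro hZ τ r hτ
  refine h (fun g hg => ?_) (trE e.symm τ) r (hτ.tr e.symm)
  apply e.injective
  rw [map_one]
  apply hZ
  rw [← trE_conj, hg, map_one]

end Transport

section Comm

variable {K : Type*} [Group K] [Finite K] {p : ℕ} [hp : Fact p.Prime] {P P' : Cfsg.BNPair K} {U U' : Subgroup K}

theorem exists_conj_le (hs : Split P p U) {V : Subgroup K} (hV : IsPGroup p V) :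
    ∃ g : K, ∀ v ∈ V, g⁻¹ * v * g ∈ U := by
  obtain ⟨x, hx⟩ := FixBN.OfBN.exists_fix hs V hV
  obtain ⟨g, rfl⟩ := QuotientGroup.mk_surjective x
  refine ⟨g, fun v hv => ?_⟩
  have h1 : g⁻¹ * v * g ∈ P.B := OfBN.smul_mk_eq.1 (hx v hv)
  obtain ⟨k, hk⟩ := hV ⟨v, hv⟩
  have h2 : v ^ p ^ k = 1 := congrArg Subtype.val hk
  refine hs.mem_of_pow h1 (n := k) ?_
  have h3 := conj_pow (i := p ^ k) (a := g⁻¹) (b := v)
  rw [inv_inv] at h3
  rw [h3, h2]
  group

/-- Commutativity of the torus does not depend on the split `(B, N)`-pair. -/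
theorem comm_transfer (hs : Split P p U) (hs' : Split P' p U')
    (hT : ∀ a ∈ P'.B ⊓ P'.N, ∀ b ∈ P'.B ⊓ P'.N, a * b = b * a) :
    ∀ a ∈ P.B ⊓ P.N, ∀ b ∈ P.B ⊓ P.N, a * b = b * a := by
  refine H463.LiePair.torus_comm hs ?_
  obtain ⟨g, hg⟩ := exists_conj_le hs' hs.isP
  obtain ⟨k, hk⟩ := exists_conj_le hs hs'.isP
  have hc1 : U.map (MulAut.conj g⁻¹).toMonoidHom ≤ U' := by
    rintro _ ⟨u, hu, rfl⟩
    simpa using hg u hu
  have hc2 : U'.map (MulAut.conj k⁻¹).toMonoidHom ≤ U := by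
    rintro _ ⟨u, hu, rfl⟩
    simpa using hk u hu
  have e1 : Nat.card (U.map (MulAut.conj g⁻¹).toMonoidHom) = Nat.card U :=
    Subgroup.card_map_of_injective (f := (MulAut.conj g⁻¹).toMonoidHom) (MulAut.conj g⁻¹).injective
  have e2 : Nat.card (U'.map (MulAut.conj k⁻¹).toMonoidHom) = Nat.card U' :=
    Subgroup.card_map_of_injective (f := (MulAut.conj k⁻¹).toMonoidHom) (MulAut.conj k⁻¹).injective
  have h1 : Nat.card U' ≤ Nat.card (U.map (MulAut.conj g⁻¹).toMonoidHom) := by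
    have := Subgroup.card_le_of_le hc2
    omega
  have heq := Subgroup.eq_of_le_of_card_ge hc1 h1
  -- `U' = g⁻¹ U g`
  have hU : ∀ x : K, x ∈ U ↔ g⁻¹ * x * g ∈ U' := by
    intro x
    rw [← heq]
    constructor
    · intro hx
      exact ⟨x, hx, by simp⟩
    · rintro ⟨y, hy, h2⟩
      have h3 : y = x := by
        have h4 : g⁻¹ * y * g = g⁻¹ * x * g := by simpa using h2
        exact mul_left_cancel (mul_right_cancel h4)
      rwa [← h3]
  have hB : ∀ x : K, x ∈ P.B → g⁻¹ * x * g ∈ P'.B := by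
    intro x hx
    rw [← hs'.normalizer_eq, Subgroup.mem_normalizer_iff]
    have hx' := hx
    rw [← hs.normalizer_eq, Subgroup.mem_normalizer_iff] at hx'
    intro u
    have h3 := hx' (g * u * g⁻¹)
    rw [hU, hU] at h3
    have e3 : g⁻¹ * (g * u * g⁻¹) * g = u := by group
    have e4 : g⁻¹ * (x * (g * u * g⁻¹) * x⁻¹) * g = g⁻¹ * x * g * u * (g⁻¹ * x * g)⁻¹ := by group
    rwa [e3, e4] at h3
  intro x hx y hy
  rw [hU]
  have h3 := H463.LiePair.comm_mem hs' hT _ (hB x hx) _ (hB y hy)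
  convert h3 using 1
  group

end Comm

section Bond

open CoxeterSystem Cfsg.Agent.ChevalleyStructure.CoxeterGeom Cfsg.Agent.Tits.Roots Cfsg.Agent.Tits.Core
  Cfsg.Agent.Nodes.Comb Cfsg.Agent.Nodes.Reps Cfsg.Agent.Nodes.BNOf

/-- **Simple bonds.** -/
theorem bond_false {p l : ℕ} (hp : p.Prime) (hp2 : p ≠ 2) {M : CoxeterMatrix (Fin l)} {K : Type*} [Group K] [Finite K]
    [IsSimpleGroup K] (hK : HasRGDT p M K) (hab : H463.LieAb.SplitAb p K) {i j : Fin l} (hM : M i j = 3) :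
    NoHyp K := by
  intro hZ τ r hτ
  have : Fact p.Prime := ⟨hp⟩
  obtain ⟨A, h, T, n, X, hW, R, hX⟩ := hK
  have hgen : RGD.B M.toCoxeterSystem h T X ⊔ NN M.toCoxeterSystem R.nsys = ⊤ := by
    rw [eq_top_iff, ← hX]
    exact Nodes.RGDLib.rgd_G1_le R
  have hne : (R.bnPair hgen).S.Nonempty := ⟨n i, i, rfl⟩
  have hs := SplitRGD.split_of_rgd hp R hgen (Cfsg.Agent.Tits.OfBN.normalCore_eq_bot (R.bnPair hgen) hne)
  obtain ⟨P', U', -, hs', hT'⟩ := hab
  have hT := comm_transfer hs hs' hT'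
  obtain ⟨z, hz, hz2, k, hk⟩ := Bond.exists_moved R hp hp2 hM
  have hBN : (R.bnPair hgen).B ⊓ (R.bnPair hgen).N = T := R.B_inf_NN
  have hzB : z ∈ (R.bnPair hgen).B ⊓ (R.bnPair hgen).N := by rw [hBN]; exact hz
  have hzn : n k * z * (n k)⁻¹ ∈ (R.bnPair hgen).B ⊓ (R.bnPair hgen).N := by
    rw [hBN]; exact (R.nsys.norm k z).1 hz
  have h1 := conj_two hτ hZ hp2 hs hT hz2 hzB.1 hzn.1
  have h2 := H463.LiePair.eq_one_of_mem_of_mem hs h1 (mul_mem (inv_mem hzB.2) hzn.2)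
  exact hk (inv_mul_eq_one.1 h2).symm

theorem B_bond {m : ℕ} (hm : 3 ≤ m) : CoxeterMatrix.B m ⟨0, by omega⟩ ⟨1, by omega⟩ = 3 := by
  have h1 : CoxeterMatrix.B m ⟨0, by omega⟩ ⟨1, by omega⟩ =
    (if (⟨0, by omega⟩ : Fin m) = ⟨1, by omega⟩ then 1
      else (if ((⟨0, by omega⟩ : Fin m) : ℕ) = m - 1 ∧ ((⟨1, by omega⟩ : Fin m) : ℕ) = m - 2 ∨
        ((⟨1, by omega⟩ : Fin m) : ℕ) = m - 1 ∧ ((⟨0, by omega⟩ : Fin m) : ℕ) = m - 2 then 4
        else (if ((⟨1, by omega⟩ : Fin m) : ℕ) + 1 = ((⟨0, by omega⟩ : Fin m) : ℕ) ∨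
          ((⟨0, by omega⟩ : Fin m) : ℕ) + 1 = ((⟨1, by omega⟩ : Fin m) : ℕ) then 3 else 2))) := rfl
  rw [h1, if_neg (by simp), if_neg, if_pos]
  · right; rfl
  · simp only
    omega

theorem A_bond {m : ℕ} (hm : 2 ≤ m) : LieRecognition.BNCox.cA m ⟨0, by omega⟩ ⟨1, by omega⟩ = 3 := by
  change LieRecognition.CoxClass.mA 0 1 = 3
  unfold LieRecognition.CoxClass.mA
  simp

theorem D_bond (m : ℕ) : Nodes.TypeD.M (m + 1) ⟨0, by omega⟩ ⟨1, by omega⟩ = 3 := by
  rw [Nodes.TypeD.M_apply, if_neg (by simp), if_pos]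
  left
  unfold Nodes.TypeD.Adj
  left
  simp

/-- **The case division in odd characteristic.** -/
theorem cases_odd {p : ℕ} (hp2 : p ≠ 2) {K : Type*} [Group K] [Finite K] [hsim : IsSimpleGroup K]
    (hK : IsLieTypeChar p K) : NoHyp K ∨
      (∃ (F : Type) (_ : Field F) (_ : Fintype F) (_ : CharP F p),
        Nonempty (K ≃* Matrix.ProjectiveSpecialLinearGroup (Fin 2) F)) ∨
      (∃ (F : Type) (_ : Field F) (_ : Fintype F) (_ : CharP F p) (n q : ℕ), 3 ≤ n ∧ n ≤ 5 ∧ Fintype.card F = q ^ 2 ∧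
        Nonempty (K ≃* PSU n F q)) ∨
      (∃ (F : Type) (_ : Field F) (_ : Fintype F) (_ : CharP F p), Nonempty (K ≃* PSp 2 F)) ∨
      (∃ (F : Type) (_ : Field F) (_ : Fintype F) (_ : CharP F p), Nonempty (K ≃* Lie.chevG2.group F)) ∨
      (∃ (F : Type) (_ : Field F) (_ : Fintype F) (_ : CharP F p) (q : ℕ) (_ : IsPrimePow q),
        Fintype.card F = q ^ 3 ∧ Nonempty (K ≃* Lie.twistedD4 F q)) ∨
      Lie.IsoRee K := by
  rcases hK with h | h | h | h | h | h | h | h | h | h | h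
  · have h' := h
    obtain ⟨F, i1, i2, i3, n, hn, h3, ⟨e⟩⟩ := h
    have hp : Fact p.Prime := ⟨CharP.char_is_prime F p⟩
    by_cases hn2 : n = 2
    · subst hn2
      exact Or.inr (Or.inl ⟨F, i1, i2, i3, ⟨e⟩⟩)
    · obtain ⟨n, rfl⟩ : ∃ k, n = k + 1 := ⟨n - 1, by omega⟩
      exact Or.inl (bond_false hp.1 hp2 ((typ_PSL n).of_equiv e.symm) (H463.LieAb.psl h') (A_bond (m := n) (by omega)))
  · have h' := h
    obtain ⟨F, i1, i2, i3, m, hm, -, ⟨e⟩⟩ := h
    have hp : Fact p.Prime := ⟨CharP.char_is_prime F p⟩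
    by_cases hm2 : m = 2
    · subst hm2
      exact Or.inr (Or.inr (Or.inr (Or.inl ⟨F, i1, i2, i3, ⟨e⟩⟩)))
    · exact Or.inl (bond_false hp.1 hp2 ((typ_PSp (by omega)).of_equiv e.symm) (H463.LieAb.psp h')
        (B_bond (m := m) (by omega)))
  · have h' := h
    obtain ⟨F, i1, i2, i3, n, q, hF, hn, -, ⟨e⟩⟩ := h
    have hp : Fact p.Prime := ⟨CharP.char_is_prime F p⟩
    by_cases hn5 : n ≤ 5
    · exact Or.inr (Or.inr (Or.inl ⟨F, i1, i2, i3, n, q, hn, hn5, hF, ⟨e⟩⟩))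
    · obtain ⟨m, hm, h⟩ := typ_PSU (p := p) hF hn
      exact Or.inl (bond_false hp.1 hp2 (h.of_equiv e.symm) (H463.LieAb.psu h') (B_bond (m := m) (by omega)))
  · have h' := h
    obtain ⟨F, i1, i2, i3, m, hm, hodd, ⟨e⟩⟩ := h
    have hp : Fact p.Prime := ⟨CharP.char_is_prime F p⟩
    have h2 : (2 : F) ≠ 0 := by
      intro h2
      have h3 : CharP F 2 := CharTwo.of_one_ne_zero_of_two_eq_zero one_ne_zero h2
      exact hp2 (CharP.eq F i3 h3)
    exact Or.inl (bond_false hp.1 hp2 ((H519.LieRank.typ_PO_odd h2 (by omega)).of_equiv e.symm)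
      (H463.LieOrth.poOdd h') (B_bond (m := m) (by omega)))
  · have h' := h
    obtain ⟨F, i1, i2, i3, m, hm, ⟨e⟩⟩ := h
    have hp : Fact p.Prime := ⟨CharP.char_is_prime F p⟩
    obtain ⟨n, rfl⟩ : ∃ n, m = n + 3 := ⟨m - 3, by omega⟩
    obtain ⟨n, rfl⟩ : ∃ k, n = k + 1 := ⟨n - 1, by omega⟩
    exact Or.inl (bond_false hp.1 hp2 ((typ_PO_plus (n + 1)).of_equiv e.symm) (H463.LieOrth.poPlus h') (D_bond (n + 1)))
  · have h' := h
    obtain ⟨F, i1, i2, i3, m, a, b, hm, hab, ⟨e⟩⟩ := h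
    have hp : Fact p.Prime := ⟨CharP.char_is_prime F p⟩
    exact Or.inl (bond_false hp.1 hp2 ((typ_PO_minus hab (by omega)).of_equiv e.symm) (H463.LieOrth.poMinus hp2 h')
      (B_bond (m := m - 1) (by omega)))
  · have hp : p.Prime := by
      obtain ⟨F, i1, i2, i3, -⟩ := h
      exact CharP.char_is_prime F p
    have hab := (H463.LieExc.exc hp2 h).ab
    obtain ⟨F, i1, i2, i3, h⟩ := h
    rcases h with ⟨-, ⟨e⟩⟩ | ⟨⟨e⟩⟩ | ⟨⟨e⟩⟩ | ⟨⟨e⟩⟩ | ⟨⟨e⟩⟩
    · exact Or.inr (Or.inr (Or.inr (Or.inr (Or.inl ⟨F, i1, i2, i3, ⟨e⟩⟩))))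
    · exact Or.inl (bond_false hp hp2 ((typ_group (by simp [Nodes.RGDChev.IsType, Nodes.RGDChev.typeList]) F p).of_equiv e.symm
        : HasRGDT p CoxeterMatrix.F₄ K) hab (i := 0) (j := 1) (by decide))
    · exact Or.inl (bond_false hp hp2 ((typ_group (by simp [Nodes.RGDChev.IsType, Nodes.RGDChev.typeList]) F p).of_equiv e.symm
        : HasRGDT p CoxeterMatrix.E₆ K) hab (i := 0) (j := 2) (by decide))
    · exact Or.inl (bond_false hp hp2 ((typ_group (by simp [Nodes.RGDChev.IsType, Nodes.RGDChev.typeList]) F p).of_equiv e.symm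
        : HasRGDT p CoxeterMatrix.E₇ K) hab (i := 0) (j := 2) (by decide))
    · exact Or.inl (bond_false hp hp2 ((typ_group (by simp [Nodes.RGDChev.IsType, Nodes.RGDChev.typeList]) F p).of_equiv e.symm
        : HasRGDT p CoxeterMatrix.E₈ K) hab (i := 0) (j := 2) (by decide))
  · have hab := (H463.LieExc.tw hp2 h).ab
    obtain ⟨F, i1, i2, i3, q, hq, ⟨hK, ⟨e⟩⟩ | ⟨hK, ⟨e⟩⟩⟩ := h
    · have hp := CharP.char_is_prime F p
      exact Or.inl (bond_false hp hp2 ((typ_twE6 hq hK p).of_equiv e.symm) hab (i := 0) (j := 1) (by decide))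
    · exact Or.inr (Or.inr (Or.inr (Or.inr (Or.inr (Or.inl ⟨F, i1, i2, i3, q, hq, hK, ⟨e⟩⟩)))))
  · exact absurd h.1 hp2
  · exact absurd h.1 hp2
  · exact Or.inr (Or.inr (Or.inr (Or.inr (Or.inr (Or.inr h.2)))))

end Bond

end Cfsg.Agent.H470
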