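import Cfsg.Agent.H470.WZero
import Cfsg.Agent.H519.SplitRes

/-!
# Minimal counterexamples and split BN-pairs

`Hyp τ r` : the automorphism `τ ≠ 1` of odd prime order `r` of `K` generates with each of its conjugates under `K` a group
of odd order, and acts on each proper invariant subgroup through its odd radical.  The results on buildings for groups
with a split BN-pair.
-/

set_option autoImplicit false
set_option linter.unusedSectionVars false

namespace Cfsg.Agent.H470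

open Cfsg.Agent.H519.CopRed (OddC)
open Cfsg.Agent.H470.Types (Two)

/-- The automorphism of a component of a minimal counterexample. -/
structure Hyp {K : Type*} [Group K] (τ : MulAut K) (r : ℕ) : Prop where
  prime : r.Prime
  two : r ≠ 2
  ne : τ ≠ 1
  pow : τ ^ r = 1
  gen : ∀ g : K, Odd (Nat.card ↥(Subgroup.closure ({τ, MulAut.conj g * τ * (MulAut.conj g)⁻¹} : Set (MulAut K))))
  rad : RadO τ

namespace Hyp

variable {K : Type*} [Group K] {τ : MulAut K} {r : ℕ}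

theorem oddR (h : Hyp τ r) : Odd r := h.prime.odd_of_ne_two h.two

theorem oddC (h : Hyp τ r) (hZ : ∀ g : K, MulAut.conj g = 1 → g = 1) : OddC τ := by
  intro g
  have hinj : Function.Injective (MulAut.conj : K →* MulAut K) := (injective_iff_map_eq_one _).2 hZ
  rw [← orderOf_injective MulAut.conj hinj]
  have h1 := h.gen g⁻¹
  have h2 : MulAut.conj (g⁻¹ * τ g) = (MulAut.conj g⁻¹ * τ * (MulAut.conj g⁻¹)⁻¹) * τ⁻¹ := by
    have h3 := WZero.mul_conj τ g
    rw [map_mul, ← map_inv, inv_inv, mul_assoc (MulAut.conj g⁻¹ * τ), mul_assoc (MulAut.conj g⁻¹)]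
    congr 1
    rw [← mul_assoc, h3, mul_inv_cancel_right]
  rw [h2]
  refine Odd.of_dvd_nat h1 (Subgroup.orderOf_dvd_natCard _ ?_)
  exact mul_mem (Subgroup.subset_closure (by simp)) (inv_mem (Subgroup.subset_closure (by simp)))

theorem ev (h : Hyp τ r) (hZ : ∀ g : K, MulAut.conj g = 1 → g = 1) (n : K) (hn : n * n = 1) (hn1 : n ≠ 1) :
    Even (orderOf (MulAut.conj n * τ)) := by
  set t := MulAut.conj n with ht
  have htt : t * t = 1 := by rw [ht, ← map_mul, hn, map_one]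
  have ht1 : t ≠ 1 := fun h1 => hn1 (hZ n h1)
  have htinv : t⁻¹ = t := inv_eq_of_mul_eq_one_right htt
  set D := Subgroup.closure ({τ, t * τ * t⁻¹} : Set (MulAut K)) with hD
  have hodd : Odd (Nat.card D) := h.gen n
  have h1 : τ ∈ D := Subgroup.subset_closure (by simp)
  have h2 : t * τ * t ∈ D := by
    have : t * τ * t⁻¹ ∈ D := Subgroup.subset_closure (by simp)
    rwa [htinv] at this
  have hsq : (t * τ) * (t * τ) ∈ D := by
    have := mul_mem h2 h1
    rwa [← mul_assoc]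
  have htD : t ∉ D := by
    intro h3
    have h4 : orderOf t ∣ Nat.card D := Subgroup.orderOf_dvd_natCard _ h3
    have h5 : orderOf t ∣ 2 := orderOf_dvd_of_pow_eq_one (by rw [pow_two, htt])
    have h6 : orderOf t = 1 := Nat.eq_one_of_dvd_coprimes (Nat.coprime_two_left.2 hodd) h5 h4
    exact ht1 (orderOf_eq_one_iff.1 h6)
  by_contra hcon
  rw [Nat.not_even_iff_odd] at hcon
  obtain ⟨k, hk⟩ := hcon
  have h3 : (t * τ) ^ (2 * k + 1) = 1 := by rw [← hk, pow_orderOf_eq_one]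
  have h4 : (t * τ) ^ (2 * k + 1) = t * (τ * ((t * τ) * (t * τ)) ^ k) := by
    rw [pow_succ', pow_mul, pow_two]; group
  rw [h4] at h3
  have h5 : τ * ((t * τ) * (t * τ)) ^ k ∈ D := mul_mem h1 (pow_mem hsq k)
  rw [mul_eq_one_iff_eq_inv] at h3
  exact htD (h3 ▸ inv_mem h5)

end Hyp

/-! ### Split BN-pairs -/

section Split

open Cfsg Cfsg.Agent.FixBN Cfsg.Agent.Tits.Core Cfsg.Agent.Tits.Core.Bldg Cfsg.Agent.Tits.OppRes
  Cfsg.Agent.Tits.OfBN Cfsg.Agent.H470.Core Cfsg.Agent.H470.NoRes Cfsg.Agent.H470.Types Cfsg.Agent.H519.SplitRes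

variable {K : Type*} [Group K] [Finite K] [IsSimpleGroup K] {τ : MulAut K} {r : ℕ} {P : Cfsg.BNPair K}
  {U : Subgroup K} {p : ℕ}

theorem two_rank (h : Hyp τ r) (hZ : ∀ g : K, MulAut.conj g = 1 → g = 1) (hs : Split P 2 U)
    (h2 : ∃ s t : P.S, s ≠ t) : False := by
  have : Fact (Nat.Prime 2) := ⟨Nat.prime_two⟩
  have : Fact r.Prime := ⟨h.prime⟩
  have hN : ((P.B ⊓ P.N).subgroupOf P.N).Normal := normal_subgroupOf P
  obtain ⟨M, cs, hcs⟩ := S0320.result P
  obtain ⟨t, ht, hto⟩ := FixOdd.exists_tw hs (Equiv.refl P.S) cs hcs τ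
  have hI : Finite P.S := OfBN.finite_I (Equiv.refl P.S)
  have hC : Cox cs := inferInstance
  have hth := thick P (Equiv.refl P.S) cs hcs
  have hf : FaithfulSMul K (K ⧸ P.B) := faithful P hs.core
  have hconn : Conn cs := fun A hA hA1 => conn_of_simple (OfBN.sys (Equiv.refl P.S) cs hcs hs) hth homog hA hA1
  apply h.ne
  rw [← ht]
  refine two (OfBN.sys (Equiv.refl P.S) cs hcs hs) hth homog hconn h2 t h.two ⟨?_, hto r h.pow⟩ ?_ ?_
  · rw [ht]; exact h.pow
  · rw [ht]; exact h.oddC hZ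
  · rw [ht]; exact h.rad

theorem comm_mem (hs : Split P p U) (hT : ∀ a ∈ P.B ⊓ P.N, ∀ b ∈ P.B ⊓ P.N, a * b = b * a) :
    ∀ x ∈ P.B, ∀ y ∈ P.B, x * y * x⁻¹ * y⁻¹ ∈ U := by
  intro x hx y hy
  obtain ⟨u, hu, a, ha, rfl⟩ := hs.cover' hx
  obtain ⟨v, hv, b, hb, rfl⟩ := hs.cover' hy
  have haB := (Subgroup.mem_inf.1 ha).1
  have hbB := (Subgroup.mem_inf.1 hb).1
  have e1 : a * b * a⁻¹ * b⁻¹ = 1 := by rw [hT a ha b hb]; group
  have e2 : u * a * (v * b) * (u * a)⁻¹ * (v * b)⁻¹ = u * (a * v * a⁻¹) * ((a * b * a⁻¹ * b⁻¹) * (b * u⁻¹ * b⁻¹)) *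
      v⁻¹ := by group
  rw [e2, e1, one_mul]
  exact mul_mem (mul_mem (mul_mem hu (hs.norm a haB v hv)) (hs.norm b hbB _ (inv_mem hu))) (inv_mem hv)

theorem abB [hp : Fact p.Prime] [hN : ((P.B ⊓ P.N).subgroupOf P.N).Normal] {I : Type*} {M : CoxeterMatrix I}
    (e : I ≃ P.S) (cs : CoxeterSystem M (WP P))
    (hcs : ∀ i, cs.simple i = QuotientGroup.mk (⟨(e i : K), P.subset (e i).2⟩ : P.N)) (hs : Split P p U)
    (hT : ∀ a ∈ P.B ⊓ P.N, ∀ b ∈ P.B ⊓ P.N, a * b = b * a) : AbB (OfBN.sys e cs hcs hs) := by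
  intro c a b ha hb
  induction c using QuotientGroup.induction_on with
  | _ g =>
  change a * b * a⁻¹ * b⁻¹ ∈ OfBN.UU P U (QuotientGroup.mk g)
  rw [OfBN.mem_UU hs]
  have h1 := comm_mem hs hT _ (OfBN.smul_mk_eq.1 ha) _ (OfBN.smul_mk_eq.1 hb)
  convert h1 using 1
  group

/-- **Conjugate `2`-elements of `B` are congruent modulo `U`.** -/
theorem conj_two (h : Hyp τ r) (hZ : ∀ g : K, MulAut.conj g = 1 → g = 1) [hp : Fact p.Prime] (hp2 : p ≠ 2)
    (hs : Split P p U) (hT : ∀ a ∈ P.B ⊓ P.N, ∀ b ∈ P.B ⊓ P.N, a * b = b * a) {s g : K}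
    (h2s : Two s) (hsB : s ∈ P.B) (hgB : g * s * g⁻¹ ∈ P.B) : s⁻¹ * (g * s * g⁻¹) ∈ U := by
  have : Fact r.Prime := ⟨h.prime⟩
  have hN : ((P.B ⊓ P.N).subgroupOf P.N).Normal := normal_subgroupOf P
  obtain ⟨M, cs, hcs⟩ := S0320.result P
  obtain ⟨t, ht, hto⟩ := FixOdd.exists_tw hs (Equiv.refl P.S) cs hcs τ
  have hI : Finite P.S := OfBN.finite_I (Equiv.refl P.S)
  have hC : Cox cs := inferInstance
  have hth := thick P (Equiv.refl P.S) cs hcs
  have hf : FaithfulSMul K (K ⧸ P.B) := faithful P hs.core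
  have hab := abB (Equiv.refl P.S) cs hcs hs hT
  have hG : ∀ x y : K ⧸ P.B, ∃ g : K, g • x = y := homog
  have hodd : OddC t.τ := by rw [ht]; exact h.oddC hZ
  have ho : t.Ord r := ⟨by rw [ht]; exact h.pow, hto r h.pow⟩
  have hrad : RadO t.τ := by rw [ht]; exact h.rad
  have hne1 : t.τ ≠ 1 := by rw [ht]; exact h.ne
  have hfix : s • (QuotientGroup.mk 1 : K ⧸ P.B) = QuotientGroup.mk 1 := OfBN.smul_mk_eq.2 (by simpa using hsB)
  have hfix' : (g * s * g⁻¹) • (QuotientGroup.mk 1 : K ⧸ P.B) = QuotientGroup.mk 1 :=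
    OfBN.smul_mk_eq.2 (by simpa using hgB)
  have key : s⁻¹ * (g * s * g⁻¹) ∈ (OfBN.sys (Equiv.refl P.S) cs hcs hs).U (QuotientGroup.mk 1) := by
    refine mem_of_conj hab ?_ hfix hfix'
    by_cases h2 : ∃ s t : P.S, s ≠ t
    · have hconn : Conn cs := fun A hA hA1 => conn_of_simple (OfBN.sys (Equiv.refl P.S) cs hcs hs) hth homog hA hA1
      have hno : ∀ J : Set P.S, (∀ i ∈ J, t.σ i ∈ J) → ∀ x, t.θ x ∈ (bldg P (Equiv.refl P.S) cs hcs).Res J x →
          J = Set.univ := fun J hJ x hx =>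
        no_res_odd (OfBN.sys (Equiv.refl P.S) cs hcs hs) hth homog hconn h2 t h.two ho.θ hrad hne1 hJ hx
      intro i e e' he h1 h1'
      obtain ⟨x, hx⟩ := Tr.exists_disp (p := p) (bAut t)
        (fun i a => (OfBN.sys (Equiv.refl P.S) cs hcs hs).card_Pan_eq hth a i) hno (full_w0 t.σ)
      obtain ⟨y, hy⟩ := Tr.exists_disp (p := p) (bAut t)
        (fun i a => (OfBN.sys (Equiv.refl P.S) cs hcs hs).card_Pan_eq hth a i) hno (full_simple_mul hconn h2 t.σ i)
      refine rel_adj hp2 hG hab t hodd (i := i) (x := x) (y := y) ?_ ?_ he h2s h1 h1'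
      · rw [Bldg.symm _ (t.θ x) x]
        change (Bldg.δ _ ((bAut t).θ x) x)⁻¹ = _
        rw [hx, hC.w0_inv]
      · rw [Bldg.symm _ (t.θ y) y]
        change (Bldg.δ _ ((bAut t).θ y) y)⁻¹ = _
        rw [hy, mul_inv_rev, hC.w0_inv, cs.inv_simple]
    · push Not at h2
      have hw : ∀ w : WP P, w ≠ 1 → w = w0 cs := by
        intro w hw
        obtain ⟨i, hi⟩ := cs.exists_rightDescent_of_ne_one hw
        exact eq_w0 fun j => by rw [h2 j i]; exact hi
      obtain ⟨x, hx⟩ : ∃ x, t.θ x ≠ x := by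
        by_contra hcon
        push Not at hcon
        exact hne1 (H519.Bld.τ_eq_one t hcon)
      have hx0 : Bldg.δ (bldg P (Equiv.refl P.S) cs hcs) x (t.θ x) = w0 cs :=
        hw _ fun h1 => hx (((Bldg.eq_one _ _ _).1 h1).symm)
      intro i e e' he h1 h1'
      have he0 : Bldg.δ (bldg P (Equiv.refl P.S) cs hcs) e e' = w0 cs := by
        refine hw _ fun h3 => ?_
        rw [h3] at he
        have := cs.length_simple i
        rw [← he, cs.length_one] at this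
        omega
      exact (rel_opp hp2 hG hab t hodd h.oddR ho hx0 he0 h2s h1 h1').symm
  have h1 := (OfBN.mem_UU hs).1 key
  simpa using h1

/-- **The longest element.** -/
theorem false_of_swap (h : Hyp τ r) (hZ : ∀ g : K, MulAut.conj g = 1 → g = 1) [hp : Fact p.Prime] (hp2 : p ≠ 2)
    (hs : Split P p U) (hne : P.S.Nonempty) {n0 : K} (hn0 : n0 * n0 = 1)
    (hinf : ∀ u ∈ U, n0 * u * n0⁻¹ ∈ U → u = 1)
    (htor : ∀ s ∈ P.B, n0⁻¹ * s * n0 ∈ P.B → Two s → (s * n0) * (s * n0) = 1) : False := by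
  have : Fact r.Prime := ⟨h.prime⟩
  have hN : ((P.B ⊓ P.N).subgroupOf P.N).Normal := normal_subgroupOf P
  obtain ⟨M, cs, hcs⟩ := S0320.result P
  obtain ⟨t, ht, hto⟩ := FixOdd.exists_tw hs (Equiv.refl P.S) cs hcs τ
  have hI : Finite P.S := OfBN.finite_I (Equiv.refl P.S)
  have hC : Cox cs := inferInstance
  have hth := thick P (Equiv.refl P.S) cs hcs
  have hf : FaithfulSMul K (K ⧸ P.B) := faithful P hs.core
  have hG : ∀ x y : K ⧸ P.B, ∃ g : K, g • x = y := homog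
  have ho : t.Ord r := ⟨by rw [ht]; exact h.pow, hto r h.pow⟩
  have hrad : RadO t.τ := by rw [ht]; exact h.rad
  have hne1 : t.τ ≠ 1 := by rw [ht]; exact h.ne
  have hw0 : w0 cs ≠ 1 := by
    obtain ⟨s, hs⟩ := hne
    intro h1
    have h2 := hC.len_w0_mul (cs.simple ⟨s, hs⟩)
    rw [h1, cs.length_simple, cs.length_one] at h2
    omega
  set S := OfBN.sys (Equiv.refl P.S) cs hcs hs with hS
  have h0 : Bldg.δ (bldg P (Equiv.refl P.S) cs hcs) (QuotientGroup.mk 1) (QuotientGroup.mk n0) = w0 cs := by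
    by_contra hcon
    obtain ⟨u, hu, hu', hu1⟩ := exists_mem_inf S hth hcon
    apply hu1
    have h1 : u ∈ OfBN.UU P U (QuotientGroup.mk 1) := hu
    have h2 : u ∈ OfBN.UU P U (QuotientGroup.mk n0) := hu'
    rw [OfBN.mem_UU hs] at h1 h2
    have h3 : n0⁻¹ = n0 := inv_eq_of_mul_eq_one_right hn0
    exact hinf u (by simpa using h1) (by rwa [h3] at h2 ⊢)
  have hdisp : ∃ x, Bldg.δ (bldg P (Equiv.refl P.S) cs hcs) x (t.θ x) = w0 cs := by
    by_cases h2 : ∃ s t : P.S, s ≠ t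
    · have hconn : Conn cs := fun A hA hA1 => conn_of_simple S hth homog hA hA1
      have hno : ∀ J : Set P.S, (∀ i ∈ J, t.σ i ∈ J) → ∀ x, t.θ x ∈ (bldg P (Equiv.refl P.S) cs hcs).Res J x →
          J = Set.univ := fun J hJ x hx =>
        no_res_odd S hth homog hconn h2 t h.two ho.θ hrad hne1 hJ hx
      obtain ⟨x, hx⟩ := Tr.exists_disp (p := p) (bAut t) (fun i a => S.card_Pan_eq hth a i) hno (full_w0 t.σ)
      refine ⟨x, ?_⟩
      rw [Bldg.symm _ (t.θ x) x]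
      change (Bldg.δ _ ((bAut t).θ x) x)⁻¹ = _
      rw [hx, hC.w0_inv]
    · push Not at h2
      obtain ⟨x, hx⟩ : ∃ x, t.θ x ≠ x := by
        by_contra hcon
        push Not at hcon
        exact hne1 (H519.Bld.τ_eq_one t hcon)
      refine ⟨x, ?_⟩
      have hw : Bldg.δ (bldg P (Equiv.refl P.S) cs hcs) x (t.θ x) ≠ 1 := fun h1 => hx (((Bldg.eq_one _ _ _).1 h1).symm)
      obtain ⟨i, hi⟩ := cs.exists_rightDescent_of_ne_one hw
      exact eq_w0 fun j => by rw [h2 j i]; exact hi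
  obtain ⟨x, hx⟩ := hdisp
  refine WZero.false_of_swap S hp2 hth hG hw0 hZ t h.oddR ho.τ ?_ h0 hn0 (n0 := n0) ?_ ?_ hx
  · rw [ht]; exact h.ev hZ
  · rw [OfBN.smul_mk, mul_one]
  · intro s h2 h3 h4
    have e1 := OfBN.smul_mk_eq.1 h3
    have e2 := OfBN.smul_mk_eq.1 h4
    exact htor s (by simpa using e1) e2 h2

end Split

end Cfsg.Agent.H470
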