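import Mathlib
import Cfsg.Prelude.Def_OddOrderLocal

/-!
Coordinates for finite metacyclic `p`-groups, `p` odd, and a bijective crossed homomorphism
from `G / Z(G)` onto `(ℤ/p^n)²`, `|G'| = p^n`, which turns commuting into orthogonality for the
standard symplectic form.
-/

set_option autoImplicit false

open scoped commutatorElement

namespace Cfsg.Agent.H470

/-- geometric sum -/
def lam (r j : ℕ) : ℕ := ∑ i ∈ Finset.range j, r ^ i

theorem lam_zero (r : ℕ) : lam r 0 = 0 := by simp [lam]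

theorem lam_one (r : ℕ) : lam r 1 = 1 := by simp [lam]

theorem lam_add (r j l : ℕ) : lam r (j + l) = lam r j + r ^ j * lam r l := by
  simp only [lam, Finset.sum_range_add, pow_add, Finset.mul_sum]

theorem lam_succ (r j : ℕ) : lam r (j + 1) = lam r j + r ^ j := by
  rw [lam_add, lam_one, mul_one]

theorem mul_lam (q j : ℕ) : q * lam (1 + q) j + 1 = (1 + q) ^ j := by
  induction j with
  | zero => simp [lam_zero]
  | succ j ih =>
    rw [lam_succ, pow_succ, mul_add, mul_one_add, ← ih]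
    ring

/-- lifting the exponent -/
theorem dvd_lam_iff {p k u : ℕ} (hp : p.Prime) (hp2 : p ≠ 2) (hk : k ≠ 0) (hu : ¬ p ∣ u)
    (s j : ℕ) : p ^ s ∣ lam (1 + p ^ k * u) j ↔ p ^ s ∣ j := by
  have hodd : Odd p := hp.odd_of_ne_two hp2
  have hu0 : u ≠ 0 := by rintro rfl; exact hu (dvd_zero _)
  have hq0 : p ^ k * u ≠ 0 := mul_ne_zero (pow_ne_zero _ hp.ne_zero) hu0
  have hpq : p ∣ p ^ k * u := Dvd.dvd.mul_right (dvd_pow_self p hk) u
  have hx : ¬ p ∣ 1 + p ^ k * u := by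
    intro h
    have h1 : p ∣ 1 := (Nat.dvd_add_left hpq).1 h
    exact hp.one_lt.ne' (Nat.dvd_one.1 h1)
  have h1 := Nat.emultiplicity_pow_sub_pow hp hodd (x := 1 + p ^ k * u) (y := 1)
    (by simpa using hpq) hx j
  have h2 : (1 + p ^ k * u) ^ j - 1 ^ j = (p ^ k * u) * lam (1 + p ^ k * u) j := by
    rw [one_pow, ← mul_lam]; simp
  rw [h2, Nat.add_sub_cancel_left, emultiplicity_mul hp.prime] at h1
  have hfin : emultiplicity p (p ^ k * u) ≠ ⊤ := by
    rw [ne_eq, emultiplicity_eq_top, not_not]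
    exact Nat.finiteMultiplicity_iff.2 ⟨hp.one_lt.ne', Nat.pos_of_ne_zero hq0⟩
  have h3 : emultiplicity p (lam (1 + p ^ k * u) j) = emultiplicity p j := by
    rw [add_comm, add_comm (emultiplicity p (p ^ k * u))] at h1
    exact ENat.add_left_injective_of_ne_top hfin h1
  rw [pow_dvd_iff_le_emultiplicity, pow_dvd_iff_le_emultiplicity, h3]


theorem dvd_lam_iff' {p q : ℕ} (hp : p.Prime) (hp2 : p ≠ 2) (hq : p ∣ q)
    (s j : ℕ) : p ^ s ∣ lam (1 + q) j ↔ p ^ s ∣ j := by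
  rcases eq_or_ne q 0 with rfl | hq0
  · have : lam (1 + 0) j = j := by simp [lam]
    rw [this]
  · obtain ⟨k, u, hu, hqe⟩ := Nat.exists_eq_pow_mul_and_not_dvd hq0 p hp.one_lt.ne'
    rw [hqe]
    apply dvd_lam_iff hp hp2 _ hu
    rintro rfl
    rw [pow_zero, one_mul] at hqe
    rw [hqe] at hq
    exact hu hq

theorem lam_cast_eq_iff {p q : ℕ} (hp : p.Prime) (hp2 : p ≠ 2) (hq : p ∣ q)
    (s j l : ℕ) : (lam (1 + q) j : ZMod (p ^ s)) = lam (1 + q) l ↔ (j : ZMod (p ^ s)) = l := by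
  wlog hjl : j ≤ l generalizing j l
  · rw [eq_comm, this l j (le_of_not_ge hjl), eq_comm]
  obtain ⟨d, rfl⟩ := Nat.exists_eq_add_of_le hjl
  rw [lam_add]
  push_cast
  rw [left_eq_add, left_eq_add]
  have hcop : ((1 + q) ^ j).Coprime (p ^ s) := by
    apply Nat.Coprime.pow
    rw [Nat.coprime_comm, Nat.Prime.coprime_iff_not_dvd hp]
    intro h
    exact hp.one_lt.ne' (Nat.dvd_one.1 ((Nat.dvd_add_left hq).1 h))
  have h1 : ((1 + (q : ZMod (p ^ s))) ^ j * (lam (1 + q) d : ZMod (p ^ s))) =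
      (((1 + q) ^ j * lam (1 + q) d : ℕ) : ZMod (p ^ s)) := by push_cast; ring
  rw [h1, ZMod.natCast_eq_zero_iff, ZMod.natCast_eq_zero_iff, hcop.symm.dvd_mul_left,
    dvd_lam_iff' hp hp2 hq]

theorem lam_surj {p q : ℕ} (hp : p.Prime) (hp2 : p ≠ 2) (hq : p ∣ q)
    (s : ℕ) (e : ZMod (p ^ s)) : ∃ j : ℕ, (lam (1 + q) j : ZMod (p ^ s)) = e := by
  have : NeZero (p ^ s) := ⟨pow_ne_zero _ hp.ne_zero⟩
  let f : ZMod (p ^ s) → ZMod (p ^ s) := fun x => (lam (1 + q) x.val : ZMod (p ^ s))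
  have hf : Function.Injective f := by
    intro x y hxy
    have h1 := (lam_cast_eq_iff hp hp2 hq s x.val y.val).1 hxy
    simpa using h1
  obtain ⟨x, hx⟩ := (Finite.injective_iff_surjective.1 hf) e
  exact ⟨x.val, hx⟩

/-- coordinates for a metacyclic `p`-group, `p` odd -/
structure MetaCoord (p : ℕ) (G : Type*) [Group G] where
  a : G
  b : G
  m : ℕ
  k : ℕ
  u : ℕ
  ha : orderOf a = p ^ m
  hk : k ≠ 0
  hu : ¬ p ∣ u
  conj : b * a * b⁻¹ = a ^ (1 + p ^ k * u)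
  gen : ∀ g : G, ∃ i j : ℕ, g = a ^ i * b ^ j

theorem exists_coord {p : ℕ} [hpf : Fact p.Prime] {G : Type*} [Group G] [Finite G]
    (hG : IsPGroup p G) (hmc : Cfsg.IsMetacyclic G) : Nonempty (MetaCoord p G) := by
  have hp := hpf.out
  obtain ⟨N, hN, hc, hq⟩ := hmc
  obtain ⟨⟨a, haN⟩, hgen⟩ := hc.exists_generator
  obtain ⟨bq, hb⟩ := hq.exists_generator
  obtain ⟨b, rfl⟩ := QuotientGroup.mk_surjective bq
  have hNa : ∀ x ∈ N, ∃ i : ℕ, x = a ^ i := by
    intro x hx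
    have := hgen ⟨x, hx⟩
    rw [← mem_powers_iff_mem_zpowers] at this
    obtain ⟨i, hi⟩ := this
    refine ⟨i, ?_⟩
    have := congrArg Subtype.val hi
    simpa using this.symm
  have hgen' : ∀ g : G, ∃ i j : ℕ, g = a ^ i * b ^ j := by
    intro g
    have := hb (g : G ⧸ N)
    rw [← mem_powers_iff_mem_zpowers] at this
    obtain ⟨j, hj⟩ := this
    have h1 : g * (b ^ j)⁻¹ ∈ N := by
      have h2 : (g : G ⧸ N) = ((b ^ j : G) : G ⧸ N) := by
        rw [QuotientGroup.mk_pow]; exact hj.symm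
      have h3 := (QuotientGroup.eq (s := N)).1 h2
      have h4 := hN.conj_mem _ h3 g
      have h5 : g * (g⁻¹ * b ^ j) * g⁻¹ = (g * (b ^ j)⁻¹)⁻¹ := by group
      rw [h5] at h4
      exact (inv_mem_iff).1 h4
    obtain ⟨i, hi⟩ := hNa _ h1
    exact ⟨i, j, by rw [← hi]; group⟩
  obtain ⟨m, hm⟩ := (IsPGroup.iff_orderOf.1 hG) a
  obtain ⟨r0, hr0⟩ := hNa (b * a * b⁻¹) (hN.conj_mem a haN b)
  by_cases hcase : a ^ r0 = a
  · refine ⟨⟨a, b, m, m + 1, 1, hm, Nat.succ_ne_zero _, ?_, ?_, hgen'⟩⟩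
    · exact fun h => hp.one_lt.ne' (Nat.dvd_one.1 h)
    · rw [hr0, hcase, mul_one, pow_add, pow_one, pow_succ, pow_mul, ← hm, pow_orderOf_eq_one,
        one_pow, mul_one]
  · -- nontrivial action
    have hm0 : m ≠ 0 := by
      rintro rfl
      rw [pow_zero, orderOf_eq_one_iff] at hm
      apply hcase
      rw [hm, one_pow]
    have hr00 : r0 ≠ 0 := by
      rintro rfl
      rw [pow_zero] at hr0
      have ha1 : a = 1 := by
        have : b * a * b⁻¹ = b * 1 * b⁻¹ := by rw [hr0]; group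
        exact mul_left_cancel (mul_right_cancel this)
      apply hcase
      rw [ha1, one_pow]
    have hpow : ∀ j : ℕ, b ^ j * a * (b ^ j)⁻¹ = a ^ (r0 ^ j) := by
      intro j
      induction j with
      | zero => simp
      | succ j ih =>
        have : b ^ (j + 1) * a * (b ^ (j + 1))⁻¹ = b * (b ^ j * a * (b ^ j)⁻¹) * b⁻¹ := by
          rw [pow_succ']; group
        rw [this, ih, pow_succ, pow_mul', ← hr0]
        exact (conj_pow).symm
    obtain ⟨t, ht⟩ := (IsPGroup.iff_orderOf.1 hG) b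
    have hrt : a ^ (r0 ^ (p ^ t)) = a ^ 1 := by
      rw [← hpow, ← ht, pow_orderOf_eq_one, pow_one]; group
    rw [pow_eq_pow_iff_modEq, hm] at hrt
    have hrp : (r0 ^ (p ^ t)) ≡ 1 [MOD p] := hrt.of_dvd (dvd_pow_self p hm0)
    have hr1 : r0 ≡ 1 [MOD p] := by
      have h1 := (ZMod.natCast_eq_natCast_iff _ _ _).2 hrp
      rw [← ZMod.natCast_eq_natCast_iff]
      rw [Nat.cast_pow, ZMod.pow_card_pow] at h1
      exact h1
    -- r0 = 1 + q
    obtain ⟨q, rfl⟩ : ∃ q, r0 = 1 + q := ⟨r0 - 1, by omega⟩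
    have hq0 : q ≠ 0 := by
      rintro rfl
      apply hcase; simp
    have hpq : p ∣ q := by
      have := (Nat.modEq_iff_dvd' (show 1 ≤ 1 + q by omega)).1 hr1.symm
      simpa using this
    obtain ⟨k, u, hu, hqe⟩ := Nat.exists_eq_pow_mul_and_not_dvd hq0 p hp.one_lt.ne'
    refine ⟨⟨a, b, m, k, u, hm, ?_, hu, by rw [← hqe]; exact hr0, hgen'⟩⟩
    rintro rfl
    rw [pow_zero, one_mul] at hqe
    rw [hqe] at hpq
    exact hu hpq


namespace MetaCoord

variable {p : ℕ} {G : Type*} [Group G] (c : MetaCoord p G)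

/-- the multiplier -/
def q : ℕ := p ^ c.k * c.u

/-- `b` acts on `a` as the `r`-th power -/
def r : ℕ := 1 + c.q

/-- `|G'| = p ^ n` -/
def n : ℕ := c.m - c.k

theorem conj_a_pow (i j : ℕ) : c.b ^ j * c.a ^ i * (c.b ^ j)⁻¹ = c.a ^ (i * c.r ^ j) := by
  induction j generalizing i with
  | zero => simp
  | succ j ih =>
    have h1 : c.b ^ (j + 1) * c.a ^ i * (c.b ^ (j + 1))⁻¹
        = c.b ^ j * (c.b * c.a ^ i * c.b⁻¹) * (c.b ^ j)⁻¹ := by
      rw [pow_succ]; group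
    have h2 : c.b * c.a ^ i * c.b⁻¹ = c.a ^ (i * c.r) := by
      rw [← conj_pow, c.conj, ← pow_mul, mul_comm]; rfl
    rw [h1, h2, ih]
    congr 1
    ring

theorem b_pow_mul_a_pow (i j : ℕ) : c.b ^ j * c.a ^ i = c.a ^ (i * c.r ^ j) * c.b ^ j := by
  rw [← c.conj_a_pow]; group

theorem mul_rule (i j i' j' : ℕ) :
    (c.a ^ i * c.b ^ j) * (c.a ^ i' * c.b ^ j')
      = c.a ^ (i + i' * c.r ^ j) * c.b ^ (j + j') := by
  rw [pow_add, pow_add]
  calc (c.a ^ i * c.b ^ j) * (c.a ^ i' * c.b ^ j')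
      = c.a ^ i * (c.b ^ j * c.a ^ i') * c.b ^ j' := by group
    _ = c.a ^ i * c.a ^ (i' * c.r ^ j) * (c.b ^ j * c.b ^ j') := by
        rw [c.b_pow_mul_a_pow]; group

theorem r_pow (j : ℕ) : c.r ^ j = c.q * lam c.r j + 1 := (mul_lam c.q j).symm

section prime
variable [hpf : Fact p.Prime]

theorem dvd_q_mul (z : ℤ) : ((p ^ c.m : ℕ) : ℤ) ∣ (c.q : ℤ) * z ↔ ((p ^ c.n : ℕ) : ℤ) ∣ z := by
  have hp := hpf.out
  have hpu : IsCoprime ((p ^ c.m : ℕ) : ℤ) (c.u : ℤ) := by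
    rw [Nat.isCoprime_iff_coprime]
    exact Nat.Coprime.pow_left _ ((Nat.Prime.coprime_iff_not_dvd hp).2 c.hu)
  have h1 : (c.q : ℤ) * z = (c.u : ℤ) * (((p ^ c.k : ℕ) : ℤ) * z) := by
    unfold q; push_cast; ring
  have h2 : ((p ^ c.m : ℕ) : ℤ) ∣ (c.u : ℤ) * (((p ^ c.k : ℕ) : ℤ) * z) ↔
      ((p ^ c.m : ℕ) : ℤ) ∣ (((p ^ c.k : ℕ) : ℤ) * z) :=
    ⟨fun h => hpu.dvd_of_dvd_mul_left h, fun h => Dvd.dvd.mul_left h _⟩
  rw [h1, h2]
  unfold n
  rcases le_total c.k c.m with h | h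
  · obtain ⟨d, hd⟩ := Nat.exists_eq_add_of_le h
    rw [hd, Nat.add_sub_cancel_left, pow_add, Nat.cast_mul]
    exact mul_dvd_mul_iff_left (by exact_mod_cast pow_ne_zero _ hp.ne_zero)
  · rw [Nat.sub_eq_zero_of_le h, pow_zero]
    constructor
    · intro _; exact one_dvd _
    · intro _
      exact Dvd.dvd.mul_right (by exact_mod_cast pow_dvd_pow p h) z

theorem a_zpow_eq_one_iff (z : ℤ) : c.a ^ ((c.q : ℤ) * z) = 1 ↔ ((p ^ c.n : ℕ) : ℤ) ∣ z := by
  rw [← orderOf_dvd_iff_zpow_eq_one, c.ha, c.dvd_q_mul]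

theorem a_zpow_eq_iff (z w : ℤ) :
    c.a ^ ((c.q : ℤ) * z) = c.a ^ ((c.q : ℤ) * w) ↔ (z : ZMod (p ^ c.n)) = (w : ZMod (p ^ c.n)) := by
  rw [← mul_inv_eq_one, ← zpow_neg, ← zpow_add]
  have : (c.q : ℤ) * z + -((c.q : ℤ) * w) = (c.q : ℤ) * (z - w) := by ring
  rw [this, a_zpow_eq_one_iff, ZMod.intCast_eq_intCast_iff_dvd_sub]
  rw [dvd_sub_comm]

omit hpf in
/-- the basic commutator computation -/
theorem comm_rule (i j i' j' : ℕ) :
    (c.a ^ i * c.b ^ j) * (c.a ^ i' * c.b ^ j') =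
      c.a ^ ((c.q : ℤ) * ((i' : ℤ) * lam c.r j - (i : ℤ) * lam c.r j')) *
        ((c.a ^ i' * c.b ^ j') * (c.a ^ i * c.b ^ j)) := by
  rw [mul_rule, mul_rule, ← mul_assoc, add_comm j' j, ← zpow_natCast c.a, ← zpow_natCast c.a,
    ← zpow_add]
  congr 2
  rw [r_pow, r_pow]
  push_cast
  ring

omit hpf in
theorem conj_b_rule (i j : ℕ) : c.b * (c.a ^ i * c.b ^ j) = c.a ^ ((c.q : ℤ) * (i : ℤ)) *
    ((c.a ^ i * c.b ^ j) * c.b) := by
  have h := c.comm_rule 0 1 i j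
  simpa [lam_one, lam_zero] using h

omit hpf in
theorem conj_a_rule (i j : ℕ) : (c.a ^ i * c.b ^ j) * c.a = c.a ^ ((c.q : ℤ) * (lam c.r j : ℤ)) *
    (c.a * (c.a ^ i * c.b ^ j)) := by
  have h := c.comm_rule i j 1 0
  simpa [lam_one, lam_zero] using h

/-- well-definedness of the coordinates modulo `p ^ n` -/
theorem coord_wd {i j i' j' : ℕ} (h : c.a ^ i * c.b ^ j = c.a ^ i' * c.b ^ j') :
    (i : ZMod (p ^ c.n)) = i' ∧ (lam c.r j : ZMod (p ^ c.n)) = lam c.r j' := by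
  constructor
  · have h1 := c.conj_b_rule i j
    rw [h, c.conj_b_rule i' j'] at h1
    have h2 := (c.a_zpow_eq_iff _ _).1 (mul_right_cancel h1)
    simpa using h2.symm
  · have h1 := c.conj_a_rule i j
    rw [h, c.conj_a_rule i' j'] at h1
    have h2 := (c.a_zpow_eq_iff _ _).1 (mul_right_cancel h1)
    simpa using h2.symm

end prime

/-- the crossed homomorphism -/
noncomputable def D (g : G) : ZMod (p ^ c.n) × ZMod (p ^ c.n) :=
  (((c.gen g).choose : ZMod (p ^ c.n)), (lam c.r (c.gen g).choose_spec.choose : ZMod (p ^ c.n)))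

variable [hpf : Fact p.Prime]

theorem D_eq (i j : ℕ) :
    c.D (c.a ^ i * c.b ^ j) = ((i : ZMod (p ^ c.n)), (lam c.r j : ZMod (p ^ c.n))) := by
  have h := c.coord_wd (c.gen (c.a ^ i * c.b ^ j)).choose_spec.choose_spec
  exact Prod.ext h.1.symm h.2.symm

/-- the scalar -/
noncomputable def chi (g : G) : ZMod (p ^ c.n) := 1 + c.q * (c.D g).2

theorem D_mul (x y : G) : c.D (x * y) = c.D x + c.chi x • c.D y := by
  obtain ⟨i, j, rfl⟩ := c.gen x
  obtain ⟨i', j', rfl⟩ := c.gen y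
  unfold chi
  rw [mul_rule, D_eq, D_eq, D_eq, lam_add, r_pow]
  ext
  · simp; ring
  · simp; ring

theorem D_one : c.D 1 = 0 := by
  have := c.D_eq 0 0
  simp only [pow_zero, mul_one, Nat.cast_zero, lam_zero] at this
  exact this

theorem D_a : c.D c.a = (1, 0) := by
  have := c.D_eq 1 0
  simpa [lam_zero] using this

theorem D_b : c.D c.b = (0, 1) := by
  have := c.D_eq 0 1
  simpa [lam_one] using this

/-- the standard symplectic form -/
def om {R : Type*} [CommRing R] (v w : R × R) : R := v.1 * w.2 - w.1 * v.2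

theorem comm_eq (x y : G) (z : ℤ) (hz : (z : ZMod (p ^ c.n)) = om (c.D y) (c.D x)) :
    x * y = c.a ^ ((c.q : ℤ) * z) * (y * x) := by
  obtain ⟨i, j, rfl⟩ := c.gen x
  obtain ⟨i', j', rfl⟩ := c.gen y
  rw [D_eq, D_eq] at hz
  rw [c.comm_rule i j i' j']
  congr 1
  rw [a_zpow_eq_iff, hz, om]
  push_cast
  rfl

theorem commute_iff (x y : G) : Commute x y ↔ om (c.D x) (c.D y) = 0 := by
  obtain ⟨z, hz⟩ := ZMod.intCast_surjective (om (c.D y) (c.D x))
  have h1 := c.comm_eq x y z hz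
  have h2 : om (c.D x) (c.D y) = - (z : ZMod (p ^ c.n)) := by rw [hz, om, om]; ring
  rw [h2, neg_eq_zero]
  constructor
  · intro h
    rw [h.eq] at h1
    have h3 : c.a ^ ((c.q : ℤ) * z) = 1 := (mul_eq_right (b := y * x)).1 h1.symm
    rw [a_zpow_eq_one_iff] at h3
    exact (ZMod.intCast_zmod_eq_zero_iff_dvd _ _).2 h3
  · intro h
    have h3 : c.a ^ ((c.q : ℤ) * z) = 1 := by
      rw [a_zpow_eq_one_iff]
      exact (ZMod.intCast_zmod_eq_zero_iff_dvd _ _).1 h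
    rw [h3, one_mul] at h1
    exact h1

theorem D_eq_zero_iff (g : G) : c.D g = 0 ↔ g ∈ Subgroup.center G := by
  rw [Subgroup.mem_center_iff]
  constructor
  · intro h x
    apply ((c.commute_iff x g).2 _).eq
    rw [h, om]; simp
  · intro h
    have h1 := (c.commute_iff c.a g).1 (h c.a)
    have h2 := (c.commute_iff c.b g).1 (h c.b)
    rw [D_a, om] at h1
    rw [D_b, om] at h2
    ext
    · simpa using h2
    · simpa using h1


omit hpf in
theorem p_dvd_q : p ∣ c.q := Dvd.dvd.mul_right (dvd_pow_self p c.hk) c.u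

theorem chi_eq (i j : ℕ) : c.chi (c.a ^ i * c.b ^ j) = ((c.r ^ j : ℕ) : ZMod (p ^ c.n)) := by
  rw [chi, D_eq, r_pow]
  push_cast
  ring

theorem isUnit_chi (x : G) : IsUnit (c.chi x) := by
  have hp := hpf.out
  obtain ⟨i, j, rfl⟩ := c.gen x
  rw [chi_eq, ZMod.isUnit_iff_coprime]
  apply Nat.Coprime.pow
  rw [Nat.coprime_comm, Nat.Prime.coprime_iff_not_dvd hp]
  intro h
  exact hp.one_lt.ne' (Nat.dvd_one.1 ((Nat.dvd_add_left c.p_dvd_q).1 h))

theorem D_pow (i j t : ℕ) : c.D ((c.a ^ i * c.b ^ j) ^ t) =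
    ((lam (c.r ^ j) t : ℕ) : ZMod (p ^ c.n)) • c.D (c.a ^ i * c.b ^ j) := by
  induction t with
  | zero => simp [D_one, lam_zero]
  | succ t ih =>
    rw [pow_succ', D_mul, ih, chi_eq, smul_smul]
    have h1 : lam (c.r ^ j) (t + 1) = 1 + c.r ^ j * lam (c.r ^ j) t := by
      rw [add_comm t 1, lam_add, lam_one, pow_one]
    rw [h1]
    push_cast
    rw [add_smul, one_smul]

/-- multiples of `D y` are values of `D` on powers of `y` -/
theorem exists_D_pow (hp2 : p ≠ 2) (y : G) (e : ZMod (p ^ c.n)) :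
    ∃ t : ℕ, c.D (y ^ t) = e • c.D y ∧ ∀ s ≤ c.n, (∃ e', e = (p ^ s : ℕ) * e') → p ^ s ∣ t := by
  obtain ⟨i, j, rfl⟩ := c.gen y
  have hq : p ∣ c.q * lam c.r j := Dvd.dvd.mul_right c.p_dvd_q _
  obtain ⟨t, ht⟩ := lam_surj hpf.out hp2 hq c.n e
  have hrj : c.r ^ j = 1 + c.q * lam c.r j := by rw [r_pow, add_comm]
  refine ⟨t, ?_, ?_⟩
  · rw [D_pow, hrj, ht]
  · rintro s hs ⟨e', he'⟩
    rw [← dvd_lam_iff' hpf.out hp2 hq s t]
    have h1 : ((lam (1 + c.q * lam c.r j) t : ℕ) : ZMod (p ^ s)) = 0 := by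
      have h2 := congrArg (ZMod.castHom (pow_dvd_pow p hs) (ZMod (p ^ s))) (ht.trans he')
      rw [map_natCast, map_mul, map_natCast, ZMod.natCast_self, zero_mul] at h2
      exact h2
    exact (ZMod.natCast_eq_zero_iff _ _).1 h1

theorem D_pow_pow_mem (y : G) (hp2 : p ≠ 2) (s : ℕ) :
    ∃ e, c.D (y ^ (p ^ s)) = ((p ^ s : ℕ) * e : ZMod (p ^ c.n)) • c.D y := by
  obtain ⟨i, j, rfl⟩ := c.gen y
  have hq : p ∣ c.q * lam c.r j := Dvd.dvd.mul_right c.p_dvd_q _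
  have hrj : c.r ^ j = 1 + c.q * lam c.r j := by rw [r_pow, add_comm]
  have h := (dvd_lam_iff' hpf.out hp2 hq s (p ^ s)).2 dvd_rfl
  obtain ⟨e, he⟩ := h
  refine ⟨(e : ZMod (p ^ c.n)), ?_⟩
  rw [D_pow, hrj, he]
  push_cast
  rfl

theorem D_surjective (hp2 : p ≠ 2) : Function.Surjective c.D := by
  have : NeZero (p ^ c.n) := ⟨pow_ne_zero _ hpf.out.ne_zero⟩
  rintro ⟨u, v⟩
  obtain ⟨j, hj⟩ := lam_surj hpf.out hp2 c.p_dvd_q c.n v
  refine ⟨c.a ^ u.val * c.b ^ j, ?_⟩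
  rw [D_eq]
  ext
  · simp
  · exact hj

theorem D_eq_D_iff (x y : G) : c.D x = c.D y ↔ x⁻¹ * y ∈ Subgroup.center G := by
  rw [← c.D_eq_zero_iff]
  have h : c.D y = c.D x + c.chi x • c.D (x⁻¹ * y) := by
    rw [← D_mul]; simp
  rw [h, left_eq_add]
  exact (c.isUnit_chi x).smul_eq_zero

/-- the image of a subgroup -/
noncomputable def W (hp2 : p ≠ 2) (R : Subgroup G) : AddSubgroup (ZMod (p ^ c.n) × ZMod (p ^ c.n)) where
  carrier := c.D '' R
  zero_mem' := ⟨1, R.one_mem, c.D_one⟩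
  add_mem' := by
    rintro _ _ ⟨x, hx, rfl⟩ ⟨y, hy, rfl⟩
    obtain ⟨u, hu⟩ := c.isUnit_chi x
    obtain ⟨t, ht, -⟩ := c.exists_D_pow hp2 y ((u⁻¹ : (ZMod (p ^ c.n))ˣ) : ZMod (p ^ c.n))
    refine ⟨x * y ^ t, R.mul_mem hx (R.pow_mem hy t), ?_⟩
    rw [D_mul, ht, ← hu, smul_smul, Units.mul_inv, one_smul]
  neg_mem' := by
    rintro _ ⟨y, hy, rfl⟩
    obtain ⟨t, ht, -⟩ := c.exists_D_pow hp2 y (-1)
    exact ⟨y ^ t, R.pow_mem hy t, by rw [ht, neg_one_smul]⟩

theorem mem_W_iff (hp2 : p ≠ 2) (R : Subgroup G) (v : ZMod (p ^ c.n) × ZMod (p ^ c.n)) :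
    v ∈ c.W hp2 R ↔ ∃ x ∈ R, c.D x = v := Iff.rfl

theorem D_mem_W_iff (hp2 : p ≠ 2) {R : Subgroup G} (hR : Subgroup.center G ≤ R) (x : G) :
    c.D x ∈ c.W hp2 R ↔ x ∈ R := by
  constructor
  · rintro ⟨y, hy, hyx⟩
    rw [D_eq_D_iff] at hyx
    have := R.mul_mem hy (hR hyx)
    simpa using this
  · intro hx
    exact ⟨x, hx, rfl⟩

theorem smul_mem_W (hp2 : p ≠ 2) (R : Subgroup G) (e : ZMod (p ^ c.n))
    {v : ZMod (p ^ c.n) × ZMod (p ^ c.n)} (hv : v ∈ c.W hp2 R) : e • v ∈ c.W hp2 R := by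
  obtain ⟨x, hx, rfl⟩ := hv
  obtain ⟨t, ht, -⟩ := c.exists_D_pow hp2 x e
  exact ⟨x ^ t, R.pow_mem hx t, ht⟩

theorem card_W_mul (hp2 : p ≠ 2) (R : Subgroup G) :
    Nat.card (c.W hp2 R) * Nat.card ↥(R ⊓ Subgroup.center G) = Nat.card R := by
  rw [Subgroup.card_eq_card_quotient_mul_card_subgroup ((Subgroup.center G).subgroupOf R)]
  congr 1
  · symm
    let f : R ⧸ ((Subgroup.center G).subgroupOf R) → c.W hp2 R :=
      Quotient.lift (fun x : R => (⟨c.D x, ⟨x, x.2, rfl⟩⟩ : c.W hp2 R)) (by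
        intro x y hxy
        apply Subtype.ext
        apply (c.D_eq_D_iff _ _).2
        have := QuotientGroup.leftRel_apply.1 hxy
        rw [Subgroup.mem_subgroupOf] at this
        exact this)
    apply Nat.card_congr (Equiv.ofBijective f ⟨?_, ?_⟩)
    · intro x y hxy
      induction x using QuotientGroup.induction_on with | _ x
      induction y using QuotientGroup.induction_on with | _ y
      have h1 : c.D x = c.D y := congrArg Subtype.val hxy
      rw [D_eq_D_iff] at h1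
      apply QuotientGroup.eq.2
      rw [Subgroup.mem_subgroupOf]
      exact h1
    · rintro ⟨_, x, hx, rfl⟩
      exact ⟨QuotientGroup.mk (⟨x, hx⟩ : R), rfl⟩
  · rw [inf_comm, ← Subgroup.inf_subgroupOf_right]
    exact (Nat.card_congr (Subgroup.subgroupOfEquivOfLe inf_le_right).toEquiv).symm

theorem card_W (hp2 : p ≠ 2) {R : Subgroup G} (hR : Subgroup.center G ≤ R) :
    Nat.card (c.W hp2 R) * Nat.card (Subgroup.center G) = Nat.card R := by
  rw [← c.card_W_mul hp2 R, inf_eq_right.2 hR]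

theorem W_top (hp2 : p ≠ 2) : c.W hp2 ⊤ = ⊤ := by
  rw [eq_top_iff]
  intro v _
  obtain ⟨x, hx⟩ := c.D_surjective hp2 v
  exact ⟨x, Subgroup.mem_top _, hx⟩

omit hpf in
theorem card_V : Nat.card (ZMod (p ^ c.n) × ZMod (p ^ c.n)) = p ^ (2 * c.n) := by
  rw [Nat.card_prod, Nat.card_zmod, ← pow_add, two_mul]

theorem card_eq (hp2 : p ≠ 2) : p ^ (2 * c.n) * Nat.card (Subgroup.center G) = Nat.card G := by
  have h := c.card_W hp2 (R := ⊤) le_top
  rw [W_top, AddSubgroup.card_top, Subgroup.card_top, card_V] at h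
  exact h

theorem index_center [Finite G] (hp2 : p ≠ 2) : (Subgroup.center G).index = p ^ (2 * c.n) := by
  have h1 := c.card_eq hp2
  have h2 := (Subgroup.center G).index_mul_card
  rw [← h1] at h2
  exact Nat.eq_of_mul_eq_mul_right Nat.card_pos h2

theorem card_zpowers_aq : Nat.card (Subgroup.zpowers (c.a ^ c.q)) = p ^ c.n := by
  rw [Nat.card_zpowers]
  apply Nat.dvd_antisymm
  · rw [orderOf_dvd_iff_pow_eq_one, ← pow_mul, ← zpow_natCast, Nat.cast_mul, a_zpow_eq_one_iff]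
  · have h1 : c.a ^ ((c.q : ℤ) * (orderOf (c.a ^ c.q) : ℤ)) = 1 := by
      rw [zpow_mul, zpow_natCast, zpow_natCast, pow_orderOf_eq_one]
    rw [a_zpow_eq_one_iff] at h1
    exact_mod_cast h1

theorem commutatorElement_eq (x y : G) (z : ℤ) (hz : (z : ZMod (p ^ c.n)) = om (c.D y) (c.D x)) :
    ⁅x, y⁆ = c.a ^ ((c.q : ℤ) * z) := by
  have := c.comm_eq x y z hz
  rw [commutatorElement_def, this]
  group

theorem commutator_eq : commutator G = Subgroup.zpowers (c.a ^ c.q) := by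
  apply le_antisymm
  · rw [commutator_def, Subgroup.commutator_le]
    rintro x - y -
    obtain ⟨z, hz⟩ := ZMod.intCast_surjective (om (c.D y) (c.D x))
    rw [c.commutatorElement_eq x y z hz, Subgroup.mem_zpowers_iff]
    exact ⟨z, by rw [zpow_mul, zpow_natCast]⟩
  · rw [Subgroup.zpowers_le]
    have h : ⁅c.b, c.a⁆ = c.a ^ c.q := by
      rw [c.commutatorElement_eq c.b c.a 1, mul_one, zpow_natCast]
      rw [D_a, D_b, om]; simp
    rw [← h, commutator_def]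
    exact Subgroup.commutator_mem_commutator (Subgroup.mem_top _) (Subgroup.mem_top _)

theorem card_commutator : Nat.card (commutator G) = p ^ c.n := by
  rw [c.commutator_eq, card_zpowers_aq]

end MetaCoord

end Cfsg.Agent.H470
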