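import Cfsg.Agent.H470.MetaBase

/-!
Consequences of the symplectic coordinates for metacyclic `p`-groups, `p` odd.
-/

set_option autoImplicit false

open scoped commutatorElement

namespace Cfsg.Agent.H470

section lattice

variable {p n : ℕ} [hpf : Fact p.Prime]

theorem zmod_subgroup (H : AddSubgroup (ZMod (p ^ n))) :
    ∃ i ≤ n, (∀ x, x ∈ H ↔ ∃ y, x = (p ^ i : ℕ) * y) ∧ Nat.card H = p ^ (n - i) := by
  have hp := hpf.out
  let f : ℤ →+ ZMod (p ^ n) := Int.castAddHom _
  have hf : Function.Surjective f := ZMod.intCast_surjective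
  obtain ⟨d, hd⟩ := Int.subgroup_cyclic (H.comap f)
  rw [← AddSubgroup.zmultiples_eq_closure] at hd
  have hmem : ∀ z : ℤ, (z : ZMod (p ^ n)) ∈ H ↔ d ∣ z := by
    intro z
    have h1 : z ∈ H.comap f ↔ z ∈ AddSubgroup.zmultiples d := by rw [hd]
    rw [Int.mem_zmultiples_iff] at h1
    exact h1
  have hdn : d.natAbs ∣ p ^ n := by
    rw [← Int.natCast_dvd_natCast, Int.natAbs_dvd, ← hmem]
    rw [Int.cast_natCast, ZMod.natCast_self]
    exact H.zero_mem
  obtain ⟨i, hi, hdi⟩ := (Nat.dvd_prime_pow hp).1 hdn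
  have hd' : ∀ z : ℤ, (z : ZMod (p ^ n)) ∈ H ↔ ((p ^ i : ℕ) : ℤ) ∣ z := by
    intro z; rw [hmem, ← hdi, Int.natAbs_dvd]
  refine ⟨i, hi, ?_, ?_⟩
  · intro x
    obtain ⟨z, rfl⟩ := ZMod.intCast_surjective x
    rw [hd']
    constructor
    · rintro ⟨y, rfl⟩
      exact ⟨(y : ZMod (p ^ n)), by push_cast; ring⟩
    · rintro ⟨y, hy⟩
      obtain ⟨y, rfl⟩ := ZMod.intCast_surjective y
      have h1 : ((z - (p ^ i : ℕ) * y : ℤ) : ZMod (p ^ n)) = 0 := by
        push_cast
        push_cast at hy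
        rw [hy]; ring
      have h2 := (ZMod.intCast_zmod_eq_zero_iff_dvd _ _).1 h1
      have h3 : ((p ^ i : ℕ) : ℤ) ∣ z - (p ^ i : ℕ) * y :=
        dvd_trans (by exact_mod_cast pow_dvd_pow p hi) h2
      exact (dvd_sub_left (Dvd.intro _ rfl)).1 h3
  · have h1 : (H.comap f).index = H.index := AddSubgroup.index_comap_of_surjective _ hf
    have h2 : (H.comap f).index = p ^ i := by
      rw [hd, Int.index_zmultiples, hdi]
    have h3 := H.card_mul_index
    rw [← h1, h2, Nat.card_zmod] at h3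
    have h4 : p ^ n = p ^ (n - i) * p ^ i := by rw [← pow_add, Nat.sub_add_cancel hi]
    exact Nat.eq_of_mul_eq_mul_right (pow_pos hp.pos i) (h3.trans h4)

/-- normal form of a subgroup of `(ℤ/p^n)²` -/
theorem lattice_decomp (W : AddSubgroup (ZMod (p ^ n) × ZMod (p ^ n))) :
    ∃ (i j : ℕ) (w : ZMod (p ^ n)), i ≤ n ∧ j ≤ n ∧
      (((p ^ i : ℕ) : ZMod (p ^ n)), 0) ∈ W ∧ (w, ((p ^ j : ℕ) : ZMod (p ^ n))) ∈ W ∧
      (∀ v ∈ W, ∃ α β : ZMod (p ^ n),
        v = α • (w, ((p ^ j : ℕ) : ZMod (p ^ n))) + β • (((p ^ i : ℕ) : ZMod (p ^ n)), 0)) ∧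
      Nat.card W = p ^ (n - i) * p ^ (n - j) := by
  have hp := hpf.out
  have hne : NeZero (p ^ n) := ⟨pow_ne_zero _ hp.ne_zero⟩
  let K : AddSubgroup (ZMod (p ^ n)) := W.comap (AddMonoidHom.inl _ _)
  let I : AddSubgroup (ZMod (p ^ n)) := W.map (AddMonoidHom.snd _ _)
  obtain ⟨i, hi, hiK, hcK⟩ := zmod_subgroup K
  obtain ⟨j, hj, hjI, hcI⟩ := zmod_subgroup I
  have h1 : (((p ^ i : ℕ) : ZMod (p ^ n)), (0 : ZMod (p ^ n))) ∈ W := by
    have : ((p ^ i : ℕ) : ZMod (p ^ n)) ∈ K := (hiK _).2 ⟨1, by rw [mul_one]⟩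
    exact this
  have h2 : ((p ^ j : ℕ) : ZMod (p ^ n)) ∈ I := (hjI _).2 ⟨1, by rw [mul_one]⟩
  obtain ⟨⟨w, w'⟩, hw, hw'⟩ := h2
  have hw'' : w' = ((p ^ j : ℕ) : ZMod (p ^ n)) := hw'
  subst hw''
  have hsm : ∀ (α : ZMod (p ^ n)) (v), v ∈ W → α • v ∈ W := by
    intro α v hv
    obtain ⟨z, rfl⟩ := ZMod.intCast_surjective α
    rw [Int.cast_smul_eq_zsmul]
    exact W.zsmul_mem hv z
  refine ⟨i, j, w, hi, hj, h1, hw, ?_, ?_⟩
  · rintro ⟨x, y⟩ hv
    have hy : y ∈ I := ⟨(x, y), hv, rfl⟩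
    obtain ⟨α, hα⟩ := (hjI _).1 hy
    have h3 : (x, y) - α • (w, ((p ^ j : ℕ) : ZMod (p ^ n))) ∈ W := W.sub_mem hv (hsm _ _ hw)
    have h4 : x - α * w ∈ K := by
      have : (x, y) - α • (w, ((p ^ j : ℕ) : ZMod (p ^ n))) = (x - α * w, 0) := by
        ext
        · simp
        · simp only [Prod.snd_sub, Prod.smul_snd, smul_eq_mul]
          rw [hα]; ring
      rw [this] at h3
      exact h3
    obtain ⟨β, hβ⟩ := (hiK _).1 h4
    refine ⟨α, β, ?_⟩
    ext
    · simp only [Prod.fst_add, Prod.smul_fst, smul_eq_mul]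
      linear_combination hβ
    · simp only [Prod.snd_add, Prod.smul_snd, smul_eq_mul]
      linear_combination hα
  · -- count
    let g : W →+ ZMod (p ^ n) := (AddMonoidHom.snd _ _).comp W.subtype
    have hrange : g.range = I := by
      ext x
      constructor
      · rintro ⟨v, rfl⟩; exact ⟨v, v.2, rfl⟩
      · rintro ⟨v, hv, rfl⟩; exact ⟨⟨v, hv⟩, rfl⟩
    have hker : Nat.card g.ker = Nat.card K := by
      apply Nat.card_congr
      refine ⟨fun v => ⟨v.1.1.1, ?_⟩, fun k => ⟨⟨(k.1, 0), k.2⟩, rfl⟩, ?_, ?_⟩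
      · have h5 : v.1.1.2 = 0 := v.2
        have h6 : ((v.1.1.1 : ZMod (p ^ n)), (0 : ZMod (p ^ n))) = v.1.1 := by
          ext
          · rfl
          · exact h5.symm
        change ((v.1.1.1 : ZMod (p ^ n)), (0 : ZMod (p ^ n))) ∈ W
        rw [h6]
        exact v.1.2
      · intro v
        apply Subtype.ext
        apply Subtype.ext
        ext
        · rfl
        · exact (show v.1.1.2 = 0 from v.2).symm
      · intro k; rfl
    have h7 : Nat.card W = Nat.card g.range * Nat.card g.ker := by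
      rw [AddSubgroup.card_eq_card_quotient_mul_card_addSubgroup g.ker]
      rw [Nat.card_congr (QuotientAddGroup.quotientKerEquivRange g).toEquiv]
    rw [h7, hrange, hker, hcK, hcI, mul_comm]

/-- the values of the form on a subgroup -/
theorem lattice_om (W : AddSubgroup (ZMod (p ^ n) × ZMod (p ^ n))) :
    ∃ t : ℕ, t ≤ 2 * n ∧ Nat.card W = p ^ (2 * n - t) ∧
      (∀ v ∈ W, ∀ v' ∈ W, ∃ γ, MetaCoord.om v v' = ((p ^ t : ℕ) : ZMod (p ^ n)) * γ) ∧
      (∃ v ∈ W, ∃ v' ∈ W, MetaCoord.om v v' = ((p ^ t : ℕ) : ZMod (p ^ n))) := by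
  obtain ⟨i, j, w, hi, hj, h1, h2, h3, h4⟩ := lattice_decomp W
  refine ⟨i + j, by omega, ?_, ?_, ?_⟩
  · rw [h4, ← pow_add]; congr 1; omega
  · intro v hv v' hv'
    obtain ⟨α, β, rfl⟩ := h3 v hv
    obtain ⟨α', β', rfl⟩ := h3 v' hv'
    refine ⟨β * α' - α * β', ?_⟩
    unfold MetaCoord.om
    simp only [Prod.fst_add, Prod.snd_add, Prod.smul_fst, Prod.smul_snd, smul_eq_mul]
    push_cast
    rw [pow_add]
    ring
  · refine ⟨_, h1, _, h2, ?_⟩
    unfold MetaCoord.om
    push_cast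
    rw [pow_add]
    ring


theorem om_add_right {R : Type*} [CommRing R] (v w w' : R × R) :
    MetaCoord.om v (w + w') = MetaCoord.om v w + MetaCoord.om v w' := by
  simp only [MetaCoord.om, Prod.fst_add, Prod.snd_add]; ring

theorem om_add_left {R : Type*} [CommRing R] (v v' w : R × R) :
    MetaCoord.om (v + v') w = MetaCoord.om v w + MetaCoord.om v' w := by
  simp only [MetaCoord.om, Prod.fst_add, Prod.snd_add]; ring

/-- nondegeneracy with duality: `|W| * |W^⊥| = |V|` -/
theorem lattice_perp (W : AddSubgroup (ZMod (p ^ n) × ZMod (p ^ n))) :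
    Nat.card W * Nat.card {v : ZMod (p ^ n) × ZMod (p ^ n) // ∀ w ∈ W, MetaCoord.om v w = 0}
      = p ^ (2 * n) := by
  classical
  have hp := hpf.out
  have hne : NeZero (p ^ n) := ⟨pow_ne_zero _ hp.ne_zero⟩
  let V := ZMod (p ^ n) × ZMod (p ^ n)
  let ψ : AddChar (ZMod (p ^ n)) ℂ := ZMod.stdAddChar
  have hψ : Function.Injective ψ := ZMod.injective_stdAddChar
  have homadd : ∀ v w w' : V, MetaCoord.om v (w + w') = MetaCoord.om v w + MetaCoord.om v w' :=
    om_add_right
  have homadd' : ∀ v v' w : V, MetaCoord.om (v + v') w = MetaCoord.om v w + MetaCoord.om v' w :=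
    om_add_left
  let F : V → AddMonoidHom W (ZMod (p ^ n)) := fun v =>
    AddMonoidHom.mk' (fun w : W => MetaCoord.om v (w : V)) (fun a b => homadd v a b)
  let F' : W → AddMonoidHom V (ZMod (p ^ n)) := fun w =>
    AddMonoidHom.mk' (fun v : V => MetaCoord.om v (w : V)) (fun a b => homadd' a b w)
  have s1 : ∀ v : V, ∑ w : W, ψ (MetaCoord.om v w) =
      if (∀ w ∈ W, MetaCoord.om v w = 0) then (Nat.card W : ℂ) else 0 := by
    intro v
    have h := AddChar.sum_eq_ite (ψ.compAddMonoidHom (F v))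
    have h2 : (ψ.compAddMonoidHom (F v)) = 0 ↔ (∀ w ∈ W, MetaCoord.om v w = 0) := by
      constructor
      · intro h0 w hw
        have h3 : (ψ.compAddMonoidHom (F v)) ⟨w, hw⟩ = 1 := by rw [h0]; rfl
        have h4 : ψ (MetaCoord.om v w) = ψ 0 := by rw [AddChar.map_zero_eq_one]; exact h3
        exact hψ h4
      · intro h0
        ext w
        change ψ (MetaCoord.om v w) = 1
        rw [h0 w w.2, AddChar.map_zero_eq_one]
    simp only [h2, ← Nat.card_eq_fintype_card] at h
    exact h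
  have s2 : ∀ w : W, ∑ v : V, ψ (MetaCoord.om v w) =
      if w = 0 then (Nat.card V : ℂ) else 0 := by
    intro w
    have h := AddChar.sum_eq_ite (ψ.compAddMonoidHom (F' w))
    have h2 : (ψ.compAddMonoidHom (F' w)) = 0 ↔ w = 0 := by
      constructor
      · intro h0
        have h3 : ∀ v : V, MetaCoord.om v (w : V) = 0 := by
          intro v
          have h4 : (ψ.compAddMonoidHom (F' w)) v = 1 := by rw [h0]; rfl
          have h5 : ψ (MetaCoord.om v w) = ψ 0 := by rw [AddChar.map_zero_eq_one]; exact h4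
          exact hψ h5
        have h6 := h3 (1, 0)
        have h7 := h3 (0, 1)
        simp only [MetaCoord.om] at h6 h7
        apply Subtype.ext
        ext
        · simpa using h7
        · simpa using h6
      · rintro rfl
        ext v
        change ψ (MetaCoord.om v ((0 : W) : V)) = 1
        have : MetaCoord.om v ((0 : W) : V) = 0 := by simp [MetaCoord.om]
        rw [this, AddChar.map_zero_eq_one]
    simp only [h2, ← Nat.card_eq_fintype_card] at h
    exact h
  have h3 : ∑ v : V, ∑ w : W, ψ (MetaCoord.om v w) = ∑ w : W, ∑ v : V, ψ (MetaCoord.om v w) :=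
    Finset.sum_comm
  rw [Finset.sum_congr rfl (fun v _ => s1 v), Finset.sum_congr rfl (fun w _ => s2 w)] at h3
  rw [Finset.sum_ite_eq' Finset.univ (0 : W), if_pos (Finset.mem_univ _), ← Finset.sum_filter,
    Finset.sum_const, nsmul_eq_mul] at h3
  have h4 : Nat.card V = p ^ (2 * n) := by
    rw [Nat.card_prod, Nat.card_zmod, ← pow_add, two_mul]
  have h5 : Nat.card {v : V // ∀ w ∈ W, MetaCoord.om v w = 0} =
      (Finset.univ.filter (fun v : V => ∀ w ∈ W, MetaCoord.om v w = 0)).card := by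
    rw [Nat.card_eq_fintype_card, Fintype.card_subtype]
  rw [h5, ← h4, mul_comm]
  exact_mod_cast h3

end lattice

/-- in a `p`-group, a subgroup of index `p^e` contains all `p^e`-th powers -/
theorem pow_mem_of_index {p : ℕ} [hpf : Fact p.Prime] {G : Type*} [Group G] [Finite G]
    (hG : IsPGroup p G) (e : ℕ) : ∀ (R : Subgroup G), R.index = p ^ e → ∀ g : G, g ^ (p ^ e) ∈ R := by
  have hp := hpf.out
  induction e with
  | zero =>
    intro R hR g
    rw [pow_zero, Subgroup.index_eq_one] at hR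
    rw [hR]; exact Subgroup.mem_top _
  | succ e ih =>
    intro R hR g
    obtain ⟨t, ht⟩ := (IsPGroup.iff_card.1 (hG.to_subgroup R))
    have hcard := R.card_mul_index
    have hdvd : p ^ (t + 1) ∣ Nat.card G := by
      rw [← hcard, ht, hR, pow_succ, pow_succ]
      exact ⟨p ^ e, by ring⟩
    obtain ⟨K, hK, hRK⟩ := Sylow.exists_subgroup_card_pow_succ hdvd ht
    have hKi : K.index = p ^ e := by
      have h1 := K.card_mul_index
      rw [← hcard, hK, ht, hR, pow_succ, pow_succ] at h1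
      have h2 : p ^ t * p * K.index = p ^ t * p * p ^ e := by rw [h1]; ring
      exact Nat.eq_of_mul_eq_mul_left (Nat.mul_pos (pow_pos hp.pos t) hp.pos) h2
    have h3 := ih K hKi g
    have hrel : (R.subgroupOf K).index = p := by
      have h4 := Subgroup.relIndex_mul_index hRK
      rw [hKi, hR, pow_succ, mul_comm (p ^ e)] at h4
      exact Nat.eq_of_mul_eq_mul_right (pow_pos hp.pos e) h4
    have hnorm : (R.subgroupOf K).Normal := by
      apply Subgroup.normal_of_index_eq_minFac_card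
      rw [hrel, hK, Nat.Prime.pow_minFac hp (Nat.succ_ne_zero t)]
    have h5 := (R.subgroupOf K).pow_index_mem (⟨g ^ p ^ e, h3⟩ : K)
    rw [hrel, Subgroup.mem_subgroupOf] at h5
    rw [pow_succ, pow_mul]
    exact h5

namespace MetaCoord

variable {p : ℕ} {G : Type*} [Group G] (c : MetaCoord p G) [hpf : Fact p.Prime]

/-- the center consists of products of `p^n`-th powers -/
theorem mem_center_iff (hp2 : p ≠ 2) (i j : ℕ) :
    c.a ^ i * c.b ^ j ∈ Subgroup.center G ↔ p ^ c.n ∣ i ∧ p ^ c.n ∣ j := by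
  rw [← c.D_eq_zero_iff, D_eq, Prod.mk_eq_zero, ZMod.natCast_eq_zero_iff, ZMod.natCast_eq_zero_iff]
  rw [r, dvd_lam_iff' hpf.out hp2 c.p_dvd_q]

theorem center_le_of_index [Finite G] (hG : IsPGroup p G) (hp2 : p ≠ 2) {R : Subgroup G} {e : ℕ}
    (hR : R.index = p ^ e) (he : e ≤ c.n) : Subgroup.center G ≤ R := by
  intro g hg
  obtain ⟨i, j, rfl⟩ := c.gen g
  obtain ⟨hi, hj⟩ := (c.mem_center_iff hp2 i j).1 hg
  obtain ⟨i', rfl⟩ := (pow_dvd_pow p he).trans hi
  obtain ⟨j', rfl⟩ := (pow_dvd_pow p he).trans hj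
  rw [mul_comm (p ^ e), mul_comm (p ^ e), pow_mul, pow_mul]
  exact R.mul_mem (pow_mem_of_index hG e R hR _) (pow_mem_of_index hG e R hR _)

theorem isMulCommutative_iff_om (hp2 : p ≠ 2) (R : Subgroup G) : IsMulCommutative R ↔
    ∀ v ∈ c.W hp2 R, ∀ v' ∈ c.W hp2 R, om v v' = 0 := by
  constructor
  · rintro h _ ⟨x, hx, rfl⟩ _ ⟨y, hy, rfl⟩
    rw [← commute_iff]
    have := h.is_comm.comm (⟨x, hx⟩ : R) ⟨y, hy⟩
    exact congrArg Subtype.val this
  · intro h
    refine ⟨⟨?_⟩⟩
    rintro ⟨x, hx⟩ ⟨y, hy⟩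
    apply Subtype.ext
    exact ((c.commute_iff x y).2 (h _ ⟨x, hx, rfl⟩ _ ⟨y, hy, rfl⟩)).eq

/-- isotropic iff small -/
theorem isMulCommutative_iff_card_W (hp2 : p ≠ 2) (R : Subgroup G) : IsMulCommutative R ↔
    Nat.card (c.W hp2 R) ≤ p ^ c.n := by
  have hp := hpf.out
  rw [c.isMulCommutative_iff_om hp2]
  obtain ⟨t, ht, hc, h1, v, hv, v', hv', h2⟩ := lattice_om (c.W hp2 R)
  rw [hc, Nat.pow_le_pow_iff_right hp.one_lt]
  constructor
  · intro h
    have h3 := h v hv v' hv'
    rw [h2, ZMod.natCast_eq_zero_iff, Nat.pow_dvd_pow_iff_le_right hp.one_lt] at h3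
    omega
  · intro h w hw w' hw'
    obtain ⟨γ, hγ⟩ := h1 w hw w' hw'
    have h3 : ((p ^ t : ℕ) : ZMod (p ^ c.n)) = 0 := by
      rw [ZMod.natCast_eq_zero_iff]
      exact pow_dvd_pow p (by omega)
    rw [hγ, h3, zero_mul]

theorem card_le_of_isMulCommutative [Finite G] (hp2 : p ≠ 2) {R : Subgroup G}
    (hR : IsMulCommutative R) : Nat.card R ≤ p ^ c.n * Nat.card (Subgroup.center G) := by
  rw [← c.card_W_mul hp2 R]
  apply Nat.mul_le_mul
  · exact (c.isMulCommutative_iff_card_W hp2 R).1 hR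
  · exact Subgroup.card_le_of_le inf_le_right

theorem index_commutator [Finite G] (hp2 : p ≠ 2) :
    (commutator G).index = p ^ c.n * Nat.card (Subgroup.center G) := by
  have h1 := (commutator G).card_mul_index
  rw [c.card_commutator, ← c.card_eq hp2, two_mul, pow_add, mul_assoc] at h1
  exact Nat.eq_of_mul_eq_mul_left (pow_pos hpf.out.pos _) h1

theorem isMulCommutative_of_index_eq [Finite G] (hG : IsPGroup p G) (hp2 : p ≠ 2) {R : Subgroup G}
    (hR : R.index = p ^ c.n) : IsMulCommutative R := by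
  rw [c.isMulCommutative_iff_card_W hp2]
  have h1 := c.card_W hp2 (c.center_le_of_index hG hp2 hR le_rfl)
  have h2 := R.card_mul_index
  rw [hR, ← h1, ← c.card_eq hp2, two_mul, pow_add] at h2
  have h3 : Nat.card (c.W hp2 R) * (Nat.card (Subgroup.center G) * p ^ c.n) =
      p ^ c.n * (Nat.card (Subgroup.center G) * p ^ c.n) := by
    linarith
  exact (Nat.eq_of_mul_eq_mul_right (Nat.mul_pos Nat.card_pos (pow_pos hpf.out.pos _)) h3).le

theorem isMulCommutative_of_card_le [Finite G] (hG : IsPGroup p G) (hp2 : p ≠ 2) {R : Subgroup G}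
    (hR : Nat.card R ≤ p ^ c.n * Nat.card (Subgroup.center G)) : IsMulCommutative R := by
  have hp := hpf.out
  -- enlarge to index p ^ n
  obtain ⟨t, ht⟩ := (IsPGroup.iff_card.1 (hG.to_subgroup R))
  obtain ⟨z, hz⟩ := (IsPGroup.iff_card.1 (hG.to_subgroup (Subgroup.center G)))
  have hG1 := c.card_eq hp2
  rw [ht, hz, ← pow_add, Nat.pow_le_pow_iff_right hp.one_lt] at hR
  rw [hz, ← pow_add] at hG1
  have hdvd : p ^ (c.n + z) ∣ Nat.card G := by
    rw [← hG1]; exact pow_dvd_pow p (by omega)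
  obtain ⟨K, hK, hRK⟩ := Sylow.exists_subgroup_card_pow_prime_le p hdvd R ht hR
  have hKi : K.index = p ^ c.n := by
    have h1 := K.card_mul_index
    rw [hK, ← hG1] at h1
    have h2 : p ^ (c.n + z) * K.index = p ^ (c.n + z) * p ^ c.n := by
      rw [h1, ← pow_add]; congr 1; omega
    exact Nat.eq_of_mul_eq_mul_left (pow_pos hp.pos _) h2
  have h3 := c.isMulCommutative_of_index_eq hG hp2 hKi
  refine ⟨⟨?_⟩⟩
  rintro ⟨x, hx⟩ ⟨y, hy⟩
  apply Subtype.ext
  have h4 := h3.is_comm.comm (⟨x, hRK hx⟩ : K) ⟨y, hRK hy⟩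
  have h5 : x * y = y * x := congrArg (Subtype.val : K → G) h4
  exact h5

/-- centralizers correspond to perps -/
theorem card_centralizer [Finite G] (hp2 : p ≠ 2) (R : Subgroup G) :
    Nat.card (c.W hp2 R) * Nat.card (Subgroup.centralizer (R : Set G)) = Nat.card G := by
  have hle : Subgroup.center G ≤ Subgroup.centralizer (R : Set G) :=
    Subgroup.center_le_centralizer _
  have h1 := c.card_W hp2 hle
  have h2 : Nat.card (c.W hp2 (Subgroup.centralizer (R : Set G))) =
      Nat.card {v : ZMod (p ^ c.n) × ZMod (p ^ c.n) // ∀ w ∈ c.W hp2 R, om v w = 0} := by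
    apply Nat.card_congr
    apply Equiv.subtypeEquivRight
    intro v
    obtain ⟨x, rfl⟩ := c.D_surjective hp2 v
    rw [c.D_mem_W_iff hp2 hle, Subgroup.mem_centralizer_iff]
    constructor
    · rintro h _ ⟨y, hy, rfl⟩
      rw [← commute_iff]
      exact (h y hy).symm
    · intro h y hy
      exact ((c.commute_iff x y).2 (h _ ⟨y, hy, rfl⟩)).eq.symm
  have h3 := lattice_perp (c.W hp2 R)
  rw [← h1, ← c.card_eq hp2, ← h3, h2, mul_assoc]

include c in
/-- `|R| |C_G(R)| = |G| |R ∩ Z(G)|` -/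
theorem card_R_mul_centralizer [Finite G] (hp2 : p ≠ 2) (R : Subgroup G) :
    Nat.card R * Nat.card (Subgroup.centralizer (R : Set G)) =
      Nat.card G * Nat.card ↥(R ⊓ Subgroup.center G) := by
  rw [← c.card_W_mul hp2 R, ← c.card_centralizer hp2 R]
  ring


theorem card_zpowers_aqt {t : ℕ} (ht : t ≤ c.n) :
    Nat.card (Subgroup.zpowers (c.a ^ (c.q * p ^ t))) = p ^ (c.n - t) := by
  have hp := hpf.out
  have hsplit : ((p ^ c.n : ℕ) : ℤ) = ((p ^ t : ℕ) : ℤ) * ((p ^ (c.n - t) : ℕ) : ℤ) := by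
    rw [← Nat.cast_mul, ← pow_add]; congr 2; omega
  have key : ∀ z : ℕ, (c.a ^ (c.q * p ^ t)) ^ z = 1 ↔ p ^ (c.n - t) ∣ z := by
    intro z
    rw [← pow_mul, ← zpow_natCast, Nat.cast_mul, Nat.cast_mul, mul_assoc, a_zpow_eq_one_iff, hsplit,
      mul_dvd_mul_iff_left (by exact_mod_cast pow_ne_zero _ hp.ne_zero), Int.natCast_dvd_natCast]
  rw [Nat.card_zpowers]
  apply Nat.dvd_antisymm
  · rw [orderOf_dvd_iff_pow_eq_one, key]
  · rw [← key, pow_orderOf_eq_one]

include c in
/-- derived subgroups of nonabelian subgroups all have index `|G : G'|` -/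
theorem index_commutator_subgroup [Finite G] (hG : IsPGroup p G) (hp2 : p ≠ 2) {R : Subgroup G}
    (hR : ¬ IsMulCommutative R) : (commutator R).index = (commutator G).index := by
  have hp := hpf.out
  obtain ⟨e, he⟩ : ∃ e, R.index = p ^ e := hG.index R
  -- the index is small
  have hen : e < c.n := by
    by_contra hcon
    apply hR
    apply c.isMulCommutative_of_card_le hG hp2
    have h1 := R.card_mul_index
    rw [he, ← c.card_eq hp2] at h1
    have h2 : Nat.card R * p ^ c.n ≤ p ^ c.n * Nat.card (Subgroup.center G) * p ^ c.n := by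
      calc Nat.card R * p ^ c.n ≤ Nat.card R * p ^ e :=
            Nat.mul_le_mul_left _ (Nat.pow_le_pow_right hp.pos (by omega))
        _ = p ^ c.n * Nat.card (Subgroup.center G) * p ^ c.n := by
            rw [h1, two_mul, pow_add]; ring
    exact Nat.le_of_mul_le_mul_right h2 (pow_pos hp.pos _)
  have hZR := c.center_le_of_index hG hp2 he hen.le
  obtain ⟨t, ht, hc, h1, v, hv, v', hv', h2⟩ := lattice_om (c.W hp2 R)
  have hte : t = e := by
    have h3 := c.card_W hp2 hZR
    have h4 := R.card_mul_index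
    rw [he, ← h3, hc, ← c.card_eq hp2] at h4
    have h5 : p ^ (2 * c.n - t) * p ^ e * Nat.card (Subgroup.center G) =
        p ^ (2 * c.n) * Nat.card (Subgroup.center G) := by rw [← h4]; ring
    have h6 := Nat.eq_of_mul_eq_mul_right Nat.card_pos h5
    rw [← pow_add] at h6
    have h7 := Nat.pow_right_injective hp.two_le h6
    omega
  subst hte
  have hder : ⁅R, R⁆ = Subgroup.zpowers (c.a ^ (c.q * p ^ t)) := by
    apply le_antisymm
    · rw [Subgroup.commutator_le]
      intro x hx y hy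
      obtain ⟨γ, hγ⟩ := h1 (c.D y) ⟨y, hy, rfl⟩ (c.D x) ⟨x, hx, rfl⟩
      obtain ⟨z, rfl⟩ := ZMod.intCast_surjective γ
      have h8 : (((p ^ t : ℕ) * z : ℤ) : ZMod (p ^ c.n)) = om (c.D y) (c.D x) := by
        rw [hγ]; push_cast; ring
      rw [c.commutatorElement_eq x y _ h8, Subgroup.mem_zpowers_iff]
      refine ⟨z, ?_⟩
      rw [← zpow_natCast, ← zpow_mul]
      congr 1
      push_cast
      ring
    · rw [Subgroup.zpowers_le]
      obtain ⟨x, hx, rfl⟩ := hv
      obtain ⟨y, hy, rfl⟩ := hv'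
      have h8 : (((p ^ t : ℕ) : ℤ) : ZMod (p ^ c.n)) = om (c.D x) (c.D y) := by
        rw [h2]; push_cast; ring
      have h9 := c.commutatorElement_eq y x _ h8
      rw [← Nat.cast_mul, zpow_natCast] at h9
      rw [← h9]
      exact Subgroup.commutator_mem_commutator hy hx
  have hcard : Nat.card (commutator R) = p ^ (c.n - t) := by
    rw [← c.card_zpowers_aqt hen.le, ← hder]
    have h10 : (commutator R).map R.subtype = ⁅R, R⁆ := by
      rw [commutator_def, Subgroup.map_commutator, ← MonoidHom.range_eq_map, Subgroup.range_subtype]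
    rw [← h10]
    exact (Nat.card_congr ((commutator R).equivMapOfInjective _ R.subtype_injective).toEquiv)
  have h11 := (commutator R).card_mul_index
  have h12 := R.card_mul_index
  rw [← h11, hcard, he, ← c.card_eq hp2, two_mul, pow_add] at h12
  rw [c.index_commutator hp2]
  have h13 : p ^ c.n * (commutator R).index = p ^ c.n * (p ^ c.n * Nat.card (Subgroup.center G)) := by
    have h14 : p ^ (c.n - t) * p ^ t = p ^ c.n := by rw [← pow_add]; congr 1; omega
    rw [← h14] at h12 ⊢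
    nlinarith
  exact Nat.eq_of_mul_eq_mul_left (pow_pos hp.pos _) h13

end MetaCoord

end Cfsg.Agent.H470
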