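import Cfsg.Agent.H470.Core
import Cfsg.Agent.H470.Tr
import Cfsg.Agent.FixOdd.Smith

/-!
# Automorphisms with odd commutators and buildings

`RadO τ` : for every proper `τ`-invariant subgroup `M` the elements `m⁻¹ τ(m)` lie in a normal subgroup of `M` of odd
order.  If `τ ≠ 1` satisfies `RadO` then `τ` stabilises no proper residue of the building (rank at least two, or
characteristic two).
-/

set_option autoImplicit false
set_option linter.unusedSectionVars false

open scoped Pointwise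

namespace Cfsg.Agent.H470

/-- For every proper invariant subgroup `M` the elements `m⁻¹ τ(m)` lie in a normal subgroup of `M` of odd order. -/
def RadO {G : Type*} [Group G] (τ : MulAut G) : Prop :=
  ∀ M : Subgroup G, M ≠ ⊤ → (∀ x ∈ M, τ x ∈ M) →
    ∃ N : Subgroup G, N ≤ M ∧ (∀ m ∈ M, ∀ n ∈ N, m * n * m⁻¹ ∈ N) ∧ Odd (Nat.card N) ∧ ∀ m ∈ M, m⁻¹ * τ m ∈ N

namespace NoRes

open Cfsg Cfsg.Agent.Tits.Core Cfsg.Agent.Tits.Core.Bldg Cfsg.Agent.Tits.OppRes Cfsg.Agent.Tits.Rigid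
  Cfsg.Agent.Tits.Exchange Cfsg.Agent.Tits
open Cfsg.Agent.FixBN (Sys)
open Cfsg.Agent.FixOdd (Tw)
open Cfsg.Agent.H519.Bld (UTrans stabRes mem_stabRes kerRes mem_kerRes kerRes_normal exists_not_mem_WJ stabRes_ne_top
  U_le_stabRes eq_of_fix odd_core_fix fix_all τ_mem_U τ_eq_one)
open Cfsg.Agent.H519.CopRed (OddC)
open Cfsg.Agent.H470.Core

variable {I : Type*} {M : CoxeterMatrix I} {W : Type*} [Group W] {cs : CoxeterSystem M W} {C : Type*}
  {Δ : Bldg cs C} {G : Type*} [Group G] [MulAction G C] {p : ℕ}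

local prefix:100 "ℓ" => cs.length

/-- the diagram is connected -/
def Conn (cs : CoxeterSystem M W) : Prop := ∀ A : Set I, A.Nonempty → A ≠ Set.univ →
  ∃ a ∈ A, ∃ k ∉ A, cs.simple a * cs.simple k ≠ cs.simple k * cs.simple a

variable [F : Cox cs]

theorem stab_inv (S : Sys Δ G p) (t : Tw Δ G) {J : Set I} (hJ : t.Stab J) {c0 : C}
    (hc0 : t.θ c0 ∈ Δ.Res J c0) : ∀ x ∈ stabRes S J c0, t.τ x ∈ stabRes S J c0 := by
  intro g hg
  rw [mem_stabRes] at hg ⊢
  have h1 : t.θ (g • c0) ∈ Δ.Res J (t.θ c0) := t.θ_mem_Res hJ hg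
  rw [t.θ_smul] at h1
  -- `τ g • θ c0 ∈ Res J (θ c0) = Res J c0`
  have h2 : t.τ g • c0 ∈ Δ.Res J (t.τ g • t.θ c0) := S.smul_mem_Res (Δ.mem_Res_symm hc0)
  exact Δ.mem_Res_trans hc0 (Δ.mem_Res_trans h1 h2)

/-- a proper residue stabilised by `θ` is fixed chamberwise -/
theorem fix_of_stable [Finite I] [Finite G] [hf : FaithfulSMul G C] (S : Sys Δ G p) [hp : Fact p.Prime]
    (hth : Δ.Thick) (hG : ∀ x y : C, ∃ g : G, g • x = y) (hconn : Conn cs) (t : Tw Δ G) (hrad : RadO t.τ)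
    {J : Set I} (hJ : t.Stab J) (hJ1 : J ≠ Set.univ) {c0 : C} (hc0 : t.θ c0 ∈ Δ.Res J c0) :
    (∀ c ∈ Δ.Res J c0, t.θ c = c) ∧ (p = 2 → ∀ m ∈ stabRes S J c0, t.τ m = m) := by
  obtain ⟨k, hk⟩ : ∃ k, k ∉ J := by
    by_contra h
    push Not at h
    exact hJ1 (Set.eq_univ_iff_forall.2 h)
  obtain ⟨N, hN, hN1, hN2, hN3⟩ := hrad (stabRes S J c0) (stabRes_ne_top hth hG hk c0) (stab_inv S t hJ hc0)
  have hU : ∀ c ∈ Δ.Res J c0, S.U c ≤ stabRes S J c0 := by
    intro c hc u hu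
    have h1 : stabRes S J c0 = stabRes S J c := by
      ext g
      rw [mem_stabRes, mem_stabRes]
      constructor
      · intro h
        have h2 : g • c ∈ Δ.Res J (g • c0) := S.smul_mem_Res hc
        exact Δ.mem_Res_trans (Δ.mem_Res_symm hc) (Δ.mem_Res_trans h h2)
      · intro h
        have h2 : g • c0 ∈ Δ.Res J (g • c) := S.smul_mem_Res (Δ.mem_Res_symm hc)
        exact Δ.mem_Res_trans hc (Δ.mem_Res_trans h h2)
    rw [h1]
    exact U_le_stabRes hu
  have h2 : p = 2 → N = ⊥ := by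
    intro hp2
    refine core_eq_bot S hth hconn hJ1 (c0 := c0) (fun g hg => hN hg) (fun c hc u hu g hg => hN1 u (hU c hc hu) g hg) ?_
    rw [hp2]
    exact Nat.coprime_two_right.2 hN2
  have h3 : ∀ c ∈ Δ.Res J c0, ∀ n ∈ N, n • c = c := by
    intro c hc n hn
    by_cases hp2 : p = 2
    · rw [h2 hp2, Subgroup.mem_bot] at hn
      rw [hn, one_smul]
    · exact odd_core_fix (S := S) hp2 hth (utrans S) (Nat.coprime_two_right.2 hN2)
        (fun u hu r hr => hN1 u (hU c hc hu) r hr) n hn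
  refine ⟨fun c hc => ?_, fun hp2 m hm => ?_⟩
  · have hθc : t.θ c ∈ Δ.Res J c0 := Δ.mem_Res_trans hc0 (t.θ_mem_Res hJ hc)
    refine (eq_of_fix (S := S) hth (utrans S) fun u hu => ?_).symm
    have h4 := hN3 u (hU c hc hu)
    have h5 : t.τ u • t.θ c = t.θ c := by rw [← t.θ_smul, S.fix c u hu]
    have h6 := h3 _ hθc _ h4
    rw [mul_smul, h5, inv_smul_eq_iff] at h6
    exact h6.symm
  · have h4 := hN3 m hm
    rw [h2 hp2, Subgroup.mem_bot, inv_mul_eq_one] at h4
    exact h4.symm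

theorem exists_adj_opp (hth : Δ.Thick) {c d : C} (hd : Δ.δ c d = w0 cs) (k : I) :
    ∃ y, Δ.δ d y = cs.simple k ∧ Δ.δ c y = w0 cs := by
  obtain ⟨a1, a2, h12, ha1, ha2⟩ := hth d k
  by_contra hcon
  push Not at hcon
  have e1 : Δ.δ c a1 = w0 cs * cs.simple k := by
    rcases Δ.step c d a1 k ha1 with h | h
    · rw [h, hd]
    · exact absurd (h.trans hd) (hcon a1 ha1)
  have e2 : Δ.δ c a2 = w0 cs * cs.simple k := by
    rcases Δ.step c d a2 k ha2 with h | h
    · rw [h, hd]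
    · exact absurd (h.trans hd) (hcon a2 ha2)
  apply h12
  refine eq_of_short (j := k) e1 e2 ?_ (mem_Pan_Res (Δ.mem_Pan_trans
    (Δ.mem_Pan_symm (Δ.mem_Pan_of_δ ha1)) (Δ.mem_Pan_of_δ ha2)))
  rw [mul_assoc, cs.simple_mul_simple_self, mul_one]
  have h3 := F.len_w0_mul (cs.simple k)
  rw [cs.length_simple] at h3
  omega

/-- an automorphism of the building fixing the chambers opposite a chamber is trivial -/
theorem id_of_opp (hth : Δ.Thick) (t : Tw Δ G) {c : C} (h : ∀ d, Δ.δ c d = w0 cs → t.θ d = d) : ∀ x, t.θ x = x := by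
  obtain ⟨d, hd⟩ := Δ.exists_δ c (w0 cs)
  have hφs : ∀ i, t.φ (cs.simple i) = cs.simple i := by
    intro i
    obtain ⟨y, hy, hcy⟩ := exists_adj_opp hth hd i
    have h1 := t.δ_θ d y
    rw [h d hd, h y hcy, hy] at h1
    exact h1.symm
  have hφ : ∀ w, t.φ w = w := by
    intro w
    induction w using cs.simple_induction_left with
    | one => exact map_one _
    | mul_simple_left w i ih => rw [map_mul, hφs, ih]
  obtain ⟨z, hz, hz'⟩ := exists_common_opp hth c d
  intro x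
  refine Rigid.rigid (Δ := Δ) (Δ' := Δ) hth (φ := fun y => t.θ y) (ψ := fun y => y) (J := Set.univ) (c := d) (d := z)
    (fun a _ b _ => by rw [t.δ_θ, hφ]) (fun a _ b _ => rfl) ?_ hz' (h z hz) x (by rw [Bldg.Res_univ]; trivial)
  intro j _ y hy
  by_cases hcy : Δ.δ c y = w0 cs
  · exact h y hcy
  · have hnear : ∀ y, y ∈ Δ.Pan j d → Δ.δ c y ≠ w0 cs → Δ.δ c y = w0 cs * cs.simple j := by
      intro y hy hne
      rcases Δ.mem_Pan.1 hy with rfl | h
      · exact absurd hd hne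
      · rcases Δ.step c d y j h with h | h
        · rw [h, hd]
        · exact absurd (h.trans hd) hne
    have hgy : t.θ y ∈ Δ.Pan j d := by
      rcases Δ.mem_Pan.1 hy with rfl | hy
      · rw [h y hd]; exact Δ.self_mem_Pan j _
      · right
        have := t.δ_θ d y
        rwa [h d hd, hy, hφs] at this
    by_cases hcg : Δ.δ c (t.θ y) = w0 cs
    · exact t.θ.injective (h _ hcg)
    · refine (eq_of_short (j := j) (hnear y hy hcy) (hnear _ hgy hcg) ?_ (mem_Pan_Res (Δ.mem_Pan_trans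
        (Δ.mem_Pan_symm hy) hgy))).symm
      rw [mul_assoc, cs.simple_mul_simple_self, mul_one]
      have h3 := F.len_w0_mul (cs.simple j)
      rw [cs.length_simple] at h3
      omega

theorem φ_w0 (t : Tw Δ G) [Finite I] : t.φ (w0 cs) = w0 cs :=
  FixOdd.Cox.map_wJ t.φ_simple (J := Set.univ) fun _ _ => trivial

/-- an odd automorphism fixing `c` and centralising the `2`-group `U c` is trivial -/
theorem id_of_cent [Finite G] [Finite I] (S : Sys Δ G 2) (hth : Δ.Thick) (t : Tw Δ G) {r : ℕ} [hr : Fact r.Prime]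
    (hr2 : r ≠ 2) (hθ : t.θ ^ r = 1) {c : C} (hc : t.θ c = c) (hU : ∀ u ∈ S.U c, t.τ u = u) : ∀ x, t.θ x = x := by
  classical
  have hmem : ∀ d, Δ.δ c d = w0 cs → Δ.δ c (t.θ d) = w0 cs := by
    intro d hd
    have h1 := t.δ_θ c d
    rwa [hc, hd, φ_w0] at h1
  obtain ⟨d0, hd0⟩ := Δ.exists_δ c (w0 cs)
  let O := {d : C // Δ.δ c d = w0 cs}
  let e : S.U c ≃ O := Equiv.ofBijective (fun u => ⟨(u : G) • d0, by rw [S.δ_smul u.2, hd0]⟩) (by
    constructor
    · intro u v huv
      have h1 : (u : G) • d0 = (v : G) • d0 := congrArg Subtype.val huv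
      have h2 : ((v : G)⁻¹ * u) • d0 = d0 := by rw [mul_smul, h1, inv_smul_smul]
      have h3 := S.free c d0 hd0 _ (mul_mem (inv_mem v.2) u.2) h2
      exact Subtype.ext (inv_mul_eq_one.1 h3).symm
    · intro d
      obtain ⟨u, hu, hud⟩ := S.trans c d0 d.1 hd0 d.2
      exact ⟨⟨u, hu⟩, Subtype.ext hud⟩)
  have hfin : Finite O := Finite.of_equiv _ e
  let f : O → O := fun d => ⟨t.θ d.1, hmem _ d.2⟩
  have hval : ∀ (n : ℕ) (d : O), (f^[n] d).1 = (t.θ ^ n) d.1 := by
    intro n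
    induction n with
    | zero => intro d; rfl
    | succ n ih =>
      intro d
      rw [Function.iterate_succ_apply, ih, pow_succ, Equiv.Perm.mul_apply]
  obtain ⟨d, hd⟩ := FixOdd.Tw.exists_fixed (r := r) f (by
    funext d
    apply Subtype.ext
    rw [hval, hθ]; rfl) (by
      rw [← Nat.card_congr e]
      obtain ⟨m, hm⟩ := IsPGroup.iff_card.1 (S.isP c)
      rw [hm]
      intro h
      exact hr2 ((Nat.prime_dvd_prime_iff_eq hr.out Nat.prime_two).1 (hr.out.dvd_of_dvd_pow h)))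
  have hd' : t.θ d.1 = d.1 := congrArg Subtype.val hd
  refine id_of_opp hth t (c := c) fun d' hd'' => ?_
  obtain ⟨u, hu, hud⟩ := S.trans c d.1 d' d.2 hd''
  rw [← hud, t.θ_smul, hU u hu, hd']

/-- **Characteristic two**: `τ ≠ 1` stabilises no proper residue. -/
theorem no_res_two [Finite I] [Finite G] [hf : FaithfulSMul G C] (S : Sys Δ G 2)
    (hth : Δ.Thick) (hG : ∀ x y : C, ∃ g : G, g • x = y) (hconn : Conn cs) (t : Tw Δ G) {r : ℕ} [hr : Fact r.Prime]
    (hr2 : r ≠ 2) (hθ : t.θ ^ r = 1) (hrad : RadO t.τ) (h1 : t.τ ≠ 1) {J : Set I} (hJ : t.Stab J) {c0 : C}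
    (hc0 : t.θ c0 ∈ Δ.Res J c0) : J = Set.univ := by
  have : Fact (Nat.Prime 2) := ⟨Nat.prime_two⟩
  by_contra hJ1
  obtain ⟨h2, h3⟩ := fix_of_stable S hth hG hconn t hrad hJ hJ1 hc0
  apply h1
  exact τ_eq_one t (id_of_cent S hth t hr2 hθ (h2 c0 (Δ.self_mem_Res J c0)) fun u hu =>
    h3 rfl u (U_le_stabRes hu))

/-- **Odd characteristic, rank at least two**: `τ ≠ 1` stabilises no proper residue. -/
theorem no_res_odd [Finite I] [Finite W] [Finite G] [hf : FaithfulSMul G C] [hp : Fact p.Prime]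
    (S : Sys Δ G p) (hth : Δ.Thick) (hG : ∀ x y : C, ∃ g : G, g • x = y) (hconn : Conn cs) (h2 : ∃ i j : I, i ≠ j)
    (t : Tw Δ G) {r : ℕ} [hr : Fact r.Prime]
    (hr2 : r ≠ 2) (hθ : t.θ ^ r = 1) (hrad : RadO t.τ) (h1 : t.τ ≠ 1) {J : Set I} (hJ : t.Stab J) {c0 : C}
    (hc0 : t.θ c0 ∈ Δ.Res J c0) : J = Set.univ := by
  classical
  have hFI : Fintype I := Fintype.ofFinite I
  by_contra hJ1
  have hfix := (fix_of_stable S hth hG hconn t hrad hJ hJ1 hc0).1 c0 (Δ.self_mem_Res J c0)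
  obtain ⟨i1, j1, hij1⟩ := h2
  by_cases htr : ∀ i j, t.σ.SameCycle i j
  · -- the order of `τ` is odd
    have hσ := H519.Bld.σ_pow t hθ c0
    have hcard : Odd (Fintype.card I) := by
      have hcyc : t.σ.IsCycle := by
        refine ⟨i1, ?_, fun j _ => htr i1 j⟩
        intro h1
        obtain ⟨n, hn⟩ := htr i1 j1
        rw [Equiv.Perm.zpow_apply_eq_self_of_apply_eq_self h1] at hn
        exact hij1 hn
      have hsupp : t.σ.support = Finset.univ := by
        ext i
        simp only [Finset.mem_univ, iff_true, Equiv.Perm.mem_support]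
        intro h1
        have h3 : ∀ j, j = i := by
          intro j
          obtain ⟨n, hn⟩ := htr i j
          rw [Equiv.Perm.zpow_apply_eq_self_of_apply_eq_self h1] at hn
          exact hn.symm
        exact hij1 ((h3 i1).trans (h3 j1).symm)
      have h1 := hcyc.orderOf
      rw [hsupp, Finset.card_univ] at h1
      rw [← h1]
      exact Odd.of_dvd_nat (hr.out.odd_of_ne_two hr2) (orderOf_dvd_of_pow_eq_one hσ)
    have hM := H519.CoxTr.no_transitive cs t.σ (H519.Bld.σ_M t) htr hcard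
    obtain ⟨a, -, k, hk, hak⟩ := hconn {i1} ⟨i1, rfl⟩ (fun h => by
      have : j1 ∈ ({i1} : Set I) := h ▸ trivial
      exact hij1 (Set.mem_singleton_iff.1 this).symm)
    rename_i ha
    have hak' : a ≠ k := by
      rintro rfl
      exact hak rfl
    have h1 := cs.simple_mul_simple_pow a k
    rw [hM a k hak', pow_two] at h1
    have h3 : cs.simple a * cs.simple k = (cs.simple a * cs.simple k)⁻¹ := eq_inv_of_mul_eq_one_left h1
    rw [mul_inv_rev, cs.inv_simple, cs.inv_simple] at h3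
    exact hak h3
  · apply h1
    refine τ_eq_one t (fix_all (Δ := Δ) t.θ (fun x hx i y hy => ?_) hfix)
    have hex : ∃ k, k ∉ FixOdd.Cox.orb t.σ i := by
      by_contra hcon
      push Not at hcon
      apply htr
      intro a b
      exact (hcon a).symm.trans (hcon b)
    obtain ⟨k, hk⟩ := hex
    refine (fix_of_stable S hth hG hconn t hrad (J := FixOdd.Cox.orb t.σ i)
      (fun j hj => FixOdd.Cox.map_mem_orb.2 hj) (fun h => hk (h ▸ trivial)) (c0 := x) ?_).1 y ?_
    · rw [hx]; exact Δ.self_mem_Res _ _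
    · rw [mem_Res, hy]
      exact simple_mem_WJ (FixOdd.Cox.self_mem_orb i)

/-! ### Characteristic two -/

/-- chambers which are not opposite -/
theorem exists_mem_inf (S : Sys Δ G p) (hth : Δ.Thick) {x y : C} (h : Δ.δ x y ≠ w0 cs) :
    ∃ u ∈ S.U x, u ∈ S.U y ∧ u ≠ 1 := by
  obtain ⟨i, hi⟩ : ∃ i, ¬ ℓ (Δ.δ x y * cs.simple i) < ℓ (Δ.δ x y) := by
    by_contra hcon
    push Not at hcon
    exact h (eq_w0 hcon)
  have hi' : ℓ (Δ.δ x y) < ℓ (Δ.δ x y * cs.simple i) :=
    lt_of_le_of_ne (not_lt.1 hi) (cs.length_mul_simple_ne _ _).symm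
  obtain ⟨a, b, hab, ha, hb⟩ := hth y i
  have h1 := Δ.step_lt x y a i ha hi'
  have h2 := Δ.step_lt x y b i hb hi'
  obtain ⟨u, hu, hub⟩ := S.exists_move (h1.trans h2.symm)
  refine ⟨u, hu, S.mem_U_of_fix hu ?_, fun h => ?_⟩
  · refine eq_of_short (x := x) (w := Δ.δ x y) (j := i) ?_ rfl hi' ?_
    · rw [S.δ_smul hu]
    · refine mem_Pan_Res (Δ.mem_Pan_trans (y := b) ?_ (Δ.mem_Pan_symm (Δ.mem_Pan_of_δ hb)))
      rw [← hub]
      exact Δ.mem_Pan_of_δ (by rw [S.iso, ha])
  · rw [h, one_smul] at hub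
    exact hab hub

theorem full_w0 (σ : I ≃ I) : Tr.FullFor cs σ (w0 cs) := by
  intro J _ h
  refine Set.eq_univ_iff_forall.2 fun i => F.descent_mem J _ h i ?_
  have h3 := F.len_w0_mul (cs.simple i)
  rw [cs.length_simple] at h3
  omega

theorem full_simple_mul (hconn : Conn cs) (h2 : ∃ i j : I, i ≠ j) (σ : I ≃ I) (i : I) :
    Tr.FullFor cs σ (cs.simple i * w0 cs) := by
  intro J _ h
  have hlv : ℓ (cs.simple i * w0 cs) + 1 = ℓ (w0 cs) := by
    have := F.len_mul_w0 (cs.simple i)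
    rwa [cs.length_simple] at this
  have hl2 : ∀ j k : I, j ≠ k → ℓ (cs.simple j * cs.simple k) = 2 := by
    intro j k hjk
    have h1 := FixBN.Thin.length_mul_simple_of_notMem (cs := cs) (J := {j}) (w := cs.simple j)
      (simple_mem_WJ rfl) (k := k) (fun h => hjk (Set.mem_singleton_iff.1 h).symm)
    rw [h1, cs.length_simple]
  -- left descents
  have hL : ∀ j, j ≠ i → j ∈ J := by
    intro j hj
    have h1 : ℓ ((cs.simple i * w0 cs)⁻¹ * cs.simple j) < ℓ (cs.simple i * w0 cs)⁻¹ := by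
      have h3 := cs.length_inv ((cs.simple i * w0 cs)⁻¹ * cs.simple j)
      rw [mul_inv_rev, inv_inv, cs.inv_simple, ← mul_assoc] at h3
      have h4 := F.len_mul_w0 (cs.simple j * cs.simple i)
      rw [hl2 j i hj] at h4
      rw [← h3, cs.length_inv]
      omega
    exact F.descent_mem J _ (inv_mem h) j h1
  by_cases hi : i ∈ J
  · exact Set.eq_univ_iff_forall.2 fun j => by
      by_cases hj : j = i
      · rw [hj]; exact hi
      · exact hL j hj
  exfalso
  -- right descents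
  have hR : ∀ j, cs.simple i ≠ w0 cs * cs.simple j * w0 cs → ℓ (cs.simple i * w0 cs * cs.simple j) <
      ℓ (cs.simple i * w0 cs) := by
    intro j hne
    have h1 : cs.simple i * w0 cs * cs.simple j = cs.simple i * (w0 cs * cs.simple j * w0 cs) * w0 cs := by
      have := F.w0_mul_self
      calc cs.simple i * w0 cs * cs.simple j = cs.simple i * w0 cs * cs.simple j * (w0 cs * w0 cs) := by
            rw [this, mul_one]
        _ = _ := by group
    rw [← F.op] at h1 hne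
    have h3 : i ≠ Core.op cs j := fun h => hne (by rw [← h])
    have h4 := F.len_mul_w0 (cs.simple i * cs.simple (Core.op cs j))
    rw [hl2 _ _ h3] at h4
    rw [h1]
    omega
  have hcomm : cs.simple i = w0 cs * cs.simple i * w0 cs := by
    by_contra hne
    exact hi (F.descent_mem J _ h i (hR i hne))
  have hv : cs.simple i * w0 cs = wJ cs J := by
    refine F.eq_wJ_of_descents h fun j hj => hR j fun h1 => ?_
    rw [hcomm] at h1
    have h3 : cs.simple i = cs.simple j := mul_left_cancel (mul_right_cancel h1)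
    exact hi (F.inj h3 ▸ hj)
  have hc : cs.simple i * wJ cs J = wJ cs J * cs.simple i := by
    rw [← hv, ← mul_assoc, cs.simple_mul_simple_self, one_mul]
    have h3 : cs.simple i * w0 cs = w0 cs * cs.simple i := by
      conv_lhs => rw [hcomm]
      rw [mul_assoc, F.w0_mul_self, mul_one]
    rw [h3, mul_assoc, cs.simple_mul_simple_self, mul_one]
  obtain ⟨a, ha, k, hk, hak⟩ := hconn {i} ⟨i, rfl⟩ (fun h => by
    obtain ⟨i1, j1, hij⟩ := h2
    have e1 : i1 ∈ ({i} : Set I) := h ▸ trivial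
    have e2 : j1 ∈ ({i} : Set I) := h ▸ trivial
    exact hij ((Set.mem_singleton_iff.1 e1).trans (Set.mem_singleton_iff.1 e2).symm))
  rw [Set.mem_singleton_iff] at ha hk
  subst ha
  exact hak (FixBN.Thin.comm_of_comm_wJ hi (hL k hk) hc)

/-- the automorphism of the building -/
def bAut (t : Tw Δ G) : Tr.BAut Δ := ⟨t.θ, t.φ, t.σ, t.φ_simple, t.δ_θ⟩

/-- **Characteristic two, rank at least two.** -/
theorem two [Finite I] [Finite G] [hf : FaithfulSMul G C] [Finite C] [Nonempty C] (S : Sys Δ G 2)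
    (hth : Δ.Thick) (hG : ∀ x y : C, ∃ g : G, g • x = y) (hconn : Conn cs) (h2 : ∃ i j : I, i ≠ j)
    (t : Tw Δ G) {r : ℕ} [hr : Fact r.Prime]
    (hr2 : r ≠ 2) (ho : t.Ord r) (hodd : OddC t.τ) (hrad : RadO t.τ) : t.τ = 1 := by
  have : Fact (Nat.Prime 2) := ⟨Nat.prime_two⟩
  by_contra h1
  have hno : ∀ J : Set I, (∀ i ∈ J, t.σ i ∈ J) → ∀ x, t.θ x ∈ Δ.Res J x → J = Set.univ :=
    fun J hJ x hx => no_res_two S hth hG hconn t hr2 ho.θ hrad h1 hJ hx
  -- no `2`-elements in the centraliser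
  have hcent : ∀ x, ∀ v ∈ S.U x, t.τ v = v → v = 1 := by
    intro x v hv hvc
    have hV : Subgroup.zpowers v ≤ t.cent := by
      rw [Subgroup.zpowers_le]; exact hvc
    obtain ⟨J, y, hgd, hVJ⟩ := FixOdd.Tw.exists_UR_smith (t := t) S hth ho hV
      ((S.isP x).to_le (Subgroup.zpowers_le.2 hv))
    have hJ := hno J hgd.st y hgd.mem
    subst hJ
    refine eq_one_of_smul (C := C) fun z => ?_
    exact S.fix z v (hVJ (Subgroup.mem_zpowers v) z (by rw [Bldg.Res_univ]; trivial))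
  -- all the displacements are opposite
  have hopp : ∀ x, Δ.δ x (t.θ x) = w0 cs := by
    intro x
    by_contra hne
    obtain ⟨u, hu, hu', hu1⟩ := exists_mem_inf S hth hne
    -- `u = τ v`
    have h3 : t.τ.symm u ∈ S.U x := by
      have h4 : IsPGroup 2 ((S.U (t.θ x)).map t.τ.symm.toMonoidHom) := (S.isP _).map _
      refine S.max x _ h4 ?_ ⟨u, hu', rfl⟩
      rintro _ ⟨v, hv, rfl⟩
      change t.τ.symm v • x = x
      apply t.θ.injective
      rw [t.θ_smul]
      have h5 : t.τ (t.τ.symm v) = v := t.τ.apply_symm_apply v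
      rw [h5, S.fix _ v hv]
    set v := t.τ.symm u with hv
    have hτv : t.τ v = u := t.τ.apply_symm_apply u
    have h4 : t.τ v = v := by
      have h5 : v⁻¹ * t.τ v ∈ S.U x := mul_mem (inv_mem h3) (hτv ▸ hu)
      obtain ⟨m, hm⟩ := IsPGroup.iff_card.1 (S.isP x)
      have h6 : orderOf (v⁻¹ * t.τ v) ∣ 2 ^ m := by
        rw [← hm]; exact Subgroup.orderOf_dvd_natCard _ h5
      have h7 := Nat.eq_one_of_dvd_coprimes (Nat.Coprime.pow_right m (Nat.coprime_two_right.2 (hodd v))) dvd_rfl h6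
      exact (inv_mul_eq_one.1 (orderOf_eq_one_iff.1 h7)).symm
    apply hu1
    rw [← hτv, h4]
    exact hcent x v h3 h4
  obtain ⟨i, j, hij⟩ := h2
  obtain ⟨x, hx⟩ := Tr.exists_disp (p := 2) (bAut t) (fun i a => S.card_Pan_eq hth a i) hno
    (full_simple_mul hconn ⟨i, j, hij⟩ t.σ i)
  have h3 : Δ.δ (t.θ x) x = w0 cs := by rw [Δ.symm x (t.θ x), hopp, F.w0_inv]
  have h4 : w0 cs = cs.simple i * w0 cs := h3.symm.trans hx
  have h6 := F.len_mul_w0 (cs.simple i)
  rw [cs.length_simple, ← h4] at h6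
  omega

end NoRes

end Cfsg.Agent.H470
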